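import Cfsg.Agent.SO89.OrdersB

set_option autoImplicit false

/-!
# The orders 5880 and 5460
-/

namespace Cfsg.Agent.SO89

open Subgroup SmallGroups MulAction

variable {G : Type*} [Group G] [Finite G]

omit [Finite G] in
/-- An element of order two either centralises or inverts a normalised group of prime order. -/
theorem conj_eq_or_inv {q : ℕ} [hq : Fact q.Prime] {s x : G} (hs : s ^ 2 = 1) (hx : orderOf x = q)
    (h : s * x * s⁻¹ ∈ zpowers x) : s * x * s⁻¹ = x ∨ s * x * s⁻¹ = x⁻¹ := by
  obtain ⟨i, hi⟩ := mem_zpowers_iff.mp h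
  have h2 : x ^ (i * i) = x := by
    rw [zpow_mul, hi, conj_zpow, hi, show s * (s * x * s⁻¹) * s⁻¹ = s ^ 2 * x * (s ^ 2)⁻¹ by rw [pow_two]; group,
      hs]
    group
  have h3 : (q : ℤ) ∣ (i - 1) * (i + 1) := by
    rw [← hx, orderOf_dvd_iff_zpow_eq_one, show (i - 1) * (i + 1) = i * i - 1 by ring, zpow_sub,
      zpow_one, h2, mul_inv_cancel]
  rcases (Nat.prime_iff_prime_int.mp hq.out).dvd_or_dvd h3 with h4 | h4
  · left
    rw [← hi]
    have := orderOf_dvd_iff_zpow_eq_one.mp (hx ▸ h4 : (orderOf x : ℤ) ∣ i - 1)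
    rw [zpow_sub, zpow_one, mul_inv_eq_one] at this
    exact this
  · right
    rw [← hi]
    have := orderOf_dvd_iff_zpow_eq_one.mp (hx ▸ h4 : (orderOf x : ℤ) ∣ i + 1)
    rw [zpow_add, zpow_one, mul_eq_one_iff_eq_inv] at this
    exact this

variable [IsSimpleGroup G]

theorem not_5880 (hG : ¬ IsMulCommutative G) : Nat.card G ≠ 5880 := by
  intro hn
  classical
  have : Fact (Nat.Prime 2) := ⟨Nat.prime_two⟩
  have : Fact (Nat.Prime 3) := ⟨by norm_num⟩
  have : Fact (Nat.Prime 5) := ⟨by norm_num⟩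
  have : Fact (Nat.Prime 7) := ⟨by norm_num⟩
  have h5 := sylow_mem hG (q := 5) (a := 1) (m := 1176) (by rw [hn]; norm_num) (by norm_num)
    (by norm_num) (by norm_num) [196] (by decide +kernel)
  have h7 := sylow_mem hG (q := 7) (a := 2) (m := 120) (by rw [hn]; norm_num) (by norm_num)
    (by norm_num) (by norm_num) [15, 120] (by decide +kernel)
  have h3 := sylow_mem hG (q := 3) (a := 1) (m := 1960) (by rw [hn]; norm_num) (by norm_num)
    (by norm_num) (by norm_num) [28, 49, 70, 196, 490] (by decide +kernel)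
  obtain ⟨P⟩ := (inferInstance : Nonempty (Sylow 5 G))
  have hd := List.mem_singleton.mp h5
  obtain ⟨hP, hN, e, he, he2, heN, -, hC, -⟩ := shape_eq hG (q := 5) (m := 1176) (N := 30)
    (by rw [hn]; norm_num) (by norm_num) hd (by norm_num) P
  have he' : e = 2 := by
    have : e ≤ 4 := Nat.divisor_le he
    interval_cases e <;> revert he heN <;> decide
  subst he'
  set N := normalizer ((P : Subgroup G) : Set G) with hNdef
  set C := centralizer ((P : Subgroup G) : Set G) with hCdef
  obtain ⟨y, hy⟩ := exists_prime_orderOf_dvd_card' (G := C) 3 (by rw [hC]; norm_num)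
  rw [← Subgroup.orderOf_coe] at hy
  obtain ⟨s, hs⟩ := exists_prime_orderOf_dvd_card' (G := N) 2 (by rw [hN]; norm_num)
  rw [← Subgroup.orderOf_coe] at hs
  have hs2 : (s : G) ^ 2 = 1 := by rw [← hs, pow_orderOf_eq_one]
  obtain ⟨x, hx, hx1, hxo, hxz⟩ := exists_generator hP
  have hxy : Commute x (y : G) := mem_centralizer_iff.mp y.2 x hx
  -- `s` inverts `x`
  have hsx : (s : G) * x * (s : G)⁻¹ = x⁻¹ := by
    refine (conj_eq_or_inv hs2 hxo (hxz.symm ▸ (mem_normalizer_iff.mp s.2 x).mp hx)).resolve_left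
      fun h => ?_
    have hsC : (s : G) ∈ C := by
      rw [hCdef, mem_centralizer_iff, ← hxz]
      intro b hb
      obtain ⟨k, rfl⟩ := mem_zpowers_iff.mp hb
      exact (Commute.zpow_left (mul_inv_eq_iff_eq_mul.mp h).symm k).eq
    have h' := Subgroup.orderOf_dvd_natCard C hsC
    rw [hs, hC] at h'
    norm_num at h'
  -- the Sylow subgroup generated by `y`
  obtain ⟨R, hR⟩ := exists_mem_sylow hy
  have hR3 : ∀ S : Sylow 3 G, Nat.card ↥(S : Subgroup G) = 3 := fun S =>
    (card_sylow_eq (a := 1) (m := 1960) (by rw [hn]; norm_num) (by norm_num) S).trans (pow_one 3)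
  have hRz : zpowers (y : G) = (R : Subgroup G) :=
    eq_of_le_of_card_ge (zpowers_le.mpr hR) (by rw [hR3 R, Nat.card_zpowers, hy])
  have hRC : ∀ a : G, Commute a (y : G) → a ∈ centralizer ((R : Subgroup G) : Set G) := by
    intro a ha
    rw [mem_centralizer_iff, ← hRz]
    intro b hb
    obtain ⟨k, rfl⟩ := mem_zpowers_iff.mp hb
    exact (Commute.zpow_left ha.symm k).eq
  -- `s` inverts `y`
  have hsy : (s : G) * (y : G) * (s : G)⁻¹ = (y : G)⁻¹ := by
    have hC15 : Nat.card (Sylow 3 C) = 1 := by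
      have h := card_sylow_mem_list (G := C) (p := 3) (a := 1) (m := 5)
        (by rw [hC]; norm_num) (by norm_num)
      rwa [show (Nat.divisors 5).filter (fun d => d % 3 = 1) = {1} by decide,
        Finset.mem_singleton] at h
    obtain ⟨S⟩ := (inferInstance : Nonempty (Sylow 3 C))
    have huniq : ∀ u : C, orderOf u = 3 → u ∈ zpowers y := by
      intro u hu
      have hsub : Subsingleton (Sylow 3 C) := (Nat.card_eq_one_iff_unique.mp hC15).1
      obtain ⟨S₁, hS₁⟩ := exists_mem_sylow hu
      obtain ⟨S₂, hS₂⟩ := exists_mem_sylow (G := C) (y := y) (by rw [← Subgroup.orderOf_coe, hy])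
      obtain rfl : S₁ = S₂ := Subsingleton.elim _ _
      have hS3 : Nat.card ↥(S₁ : Subgroup C) = 3 :=
        (card_sylow_eq (a := 1) (m := 5) (by rw [hC]; norm_num) (by norm_num) S₁).trans (pow_one 3)
      rw [zpowers_eq_of_card_prime hS3 hS₂ (fun h => by
        rw [h, OneMemClass.coe_one, orderOf_one] at hy; omega)]
      exact hS₁
    have hmem : (s : G) * (y : G) * (s : G)⁻¹ ∈ C := by
      refine mem_centralizer_iff.mpr fun a ha => ?_
      have hm : (s : G)⁻¹ * a * s ∈ (P : Subgroup G) := by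
        rw [mem_normalizer_iff.mp s.2, show (s : G) * ((s : G)⁻¹ * a * s) * (s : G)⁻¹ = a by group]
        exact ha
      calc a * (s * (y : G) * (s : G)⁻¹) = s * ((s : G)⁻¹ * a * s * y) * (s : G)⁻¹ := by group
        _ = s * (y * ((s : G)⁻¹ * a * s)) * (s : G)⁻¹ := by rw [mem_centralizer_iff.mp y.2 _ hm]
        _ = s * (y : G) * (s : G)⁻¹ * a := by group
    have h1 := huniq ⟨_, hmem⟩ (by
      rw [Subgroup.orderOf_mk, ← MulAut.conj_apply]; exact (MulEquiv.orderOf_eq _ (y : G)).trans hy)
    obtain ⟨k, hk⟩ := mem_zpowers_iff.mp h1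
    refine (conj_eq_or_inv hs2 hy (mem_zpowers_iff.mpr ⟨k, by
      have := congrArg Subtype.val hk; simpa using this⟩)).resolve_left fun h => ?_
    have hsR := hRC (s : G) (mul_inv_eq_iff_eq_mul.mp h)
    have hxR := hRC x hxy
    have hd3 : Nat.card (Sylow 3 G) * Nat.card ↥(normalizer ((R : Subgroup G) : Set G)) = 5880 := by
      rw [mul_comm, card_normalizer_mul R, hn]
    obtain ⟨e', he'2, he'dvd, hmul, -, hqC⟩ := shape hG R (hR3 R)
    have h2C : 2 ∣ Nat.card ↥(centralizer ((R : Subgroup G) : Set G)) :=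
      hs ▸ Subgroup.orderOf_dvd_natCard _ hsR
    have h5C : 5 ∣ Nat.card ↥(centralizer ((R : Subgroup G) : Set G)) :=
      hxo ▸ Subgroup.orderOf_dvd_natCard _ hxR
    have he2' : e' = 2 := by
      have := Nat.le_of_dvd (by norm_num) he'dvd
      omega
    have h60 : 60 ∣ Nat.card ↥(normalizer ((R : Subgroup G) : Set G)) := by
      rw [← hmul, he2']
      exact mul_dvd_mul_left 2 (show 30 ∣ _ from Nat.Coprime.mul_dvd_of_dvd_of_dvd
        (m := 10) (n := 3) (by norm_num)
        (Nat.Coprime.mul_dvd_of_dvd_of_dvd (m := 2) (n := 5) (by norm_num) h2C h5C) hqC)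
    simp only [List.mem_cons, List.not_mem_nil, or_false] at h3
    have hN3 : Nat.card ↥(normalizer ((R : Subgroup G) : Set G)) = 120 := by
      rcases h3 with h3 | h3 | h3 | h3 | h3 <;> rw [h3] at hd3 <;> omega
    obtain ⟨i, j, hA, hi, hqi, hj, -⟩ := sub_data P
      (show (P : Subgroup G) ≤ normalizer ((R : Subgroup G) : Set G) from
        (hxz ▸ zpowers_le.mpr hxR).trans (centralizer_le_normalizer _))
    rw [hN3] at hA
    rw [← hNdef, hN] at hi
    rw [hP] at hqi
    have hkey : ∀ i ∈ Nat.divisors 30, 5 ∣ i → ∀ j < 121, j % 5 = 1 → 120 ≠ i * j := by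
      decide +kernel
    exact hkey i (Nat.mem_divisors.mpr ⟨hi, by norm_num⟩) hqi j
      (Nat.lt_succ_of_le (Nat.le_of_dvd (by norm_num) ⟨i, hA.trans (mul_comm _ _)⟩)) hj hA
  -- the action on fifteen cosets
  obtain ⟨Q⟩ := (inferInstance : Nonempty (Sylow 7 G))
  have hQ : ∀ S : Sylow 7 G, Nat.card ↥(S : Subgroup G) = 7 ^ 2 := fun S =>
    card_sylow_eq (a := 2) (m := 120) (by rw [hn]; norm_num) (by norm_num) S
  simp only [List.mem_cons, List.not_mem_nil, or_false] at h7
  rcases h7 with h7 | h7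
  swap
  · have hH := normalizer_conj_eq_card Q h7 (k := 49) (by rw [hn])
    refine not_normalizer_le_centralizer hG (by rw [hn]; norm_num) Q ?_
    rw [← (eq_of_le_of_card_ge le_normalizer (by rw [hH, hQ]; norm_num) :
      (Q : Subgroup G) = normalizer ((Q : Subgroup G) : Set G))]
    exact sylow_le_centralizer_of_le hQ Q le_rfl
  set H := normalizer ((Q : Subgroup G) : Set G) with hHdef
  have hH : Nat.card H = 392 := normalizer_conj_eq_card Q h7 (by rw [hn])
  have hidx : H.index = 15 := Q.card_eq_index_normalizer.symm.trans h7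
  set w := x * (y : G) with hw
  have hwo : orderOf w = 15 := by
    rw [hw, hxy.orderOf_mul_eq_mul_orderOf_of_coprime (by rw [hxo, hy]; norm_num), hxo, hy]
  have hsw : (s : G) * w * (s : G)⁻¹ = w⁻¹ := by
    rw [hw, conj_mul.symm, hsx, hsy, mul_inv_rev]
    exact (hxy.inv_inv).eq
  have hsemi : ∀ (a : G ⧸ H) (u : G), u ∈ zpowers w → u • a = a → u = 1 := by
    intro a u hu hua
    obtain ⟨g, rfl⟩ := QuotientGroup.mk_surjective a
    have hmem := (mk_mem_fixedBy_iff H u g).mp hua
    have h1 : orderOf u ∣ 15 := by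
      exact (Subgroup.orderOf_dvd_natCard _ hu).trans (by rw [Nat.card_zpowers, hwo])
    have h2 : orderOf u ∣ 392 := by
      rw [← hH]
      have h := Subgroup.orderOf_dvd_natCard _ hmem
      rwa [show g⁻¹ * u * g = MulAut.conj g⁻¹ u by simp, MulEquiv.orderOf_eq] at h
    exact orderOf_eq_one_iff.mp (Nat.eq_one_of_dvd_coprimes (by norm_num) h1 h2)
  have hsf : Nat.card (fixedBy (G ⧸ H) (s : G)) ≤ 1 := by
    by_contra hlt
    push Not at hlt
    have := (Finite.one_lt_card_iff_nontrivial).mp hlt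
    obtain ⟨⟨a, ha⟩, ⟨b, hb⟩, hab⟩ := exists_pair_ne (fixedBy (G ⧸ H) (s : G))
    have hinj : Function.Injective (fun u : zpowers w => (u : G) • a) := by
      intro u v huv
      have h' : ((v : G)⁻¹ * u) • a = a := by
        rw [mul_smul]; simp only at huv; rw [huv, inv_smul_smul]
      exact Subtype.ext (inv_mul_eq_one.mp (hsemi a _ (mul_mem (inv_mem v.2) u.2) h')).symm
    obtain ⟨u, hu⟩ := ((Nat.bijective_iff_injective_and_card _).mpr ⟨hinj, by
      rw [Nat.card_zpowers, hwo, ← index_eq_card, hidx]⟩).2 b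
    have hinv : (s : G) * u * (s : G)⁻¹ = (u : G)⁻¹ := by
      obtain ⟨k, hk⟩ := mem_zpowers_iff.mp u.2
      rw [← hk, ← conj_zpow, hsw, inv_zpow]
    simp only at hu
    have hfix : ((u : G)⁻¹ * (u : G)⁻¹) • a = a := by
      have h1 : (s : G) • b = b := hb
      rw [← hu, ← mul_smul,
        show (s : G) * u = s * u * (s : G)⁻¹ * s by group, hinv, mul_smul,
        show (s : G) • a = a from ha] at h1
      rw [mul_smul, h1, inv_smul_smul]
    have h2 := hsemi a _ (mul_mem (inv_mem u.2) (inv_mem u.2)) hfix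
    have h3 : orderOf (u : G) ∣ 2 := by
      apply orderOf_dvd_of_pow_eq_one
      rwa [← mul_inv_rev, inv_eq_one, ← pow_two] at h2
    have h4 : orderOf (u : G) ∣ 15 := by
      exact (Subgroup.orderOf_dvd_natCard _ u.2).trans (by rw [Nat.card_zpowers, hwo])
    have h5 : (u : G) = 1 := orderOf_eq_one_iff.mp (Nat.eq_one_of_dvd_coprimes (by norm_num) h3 h4)
    exact hab (Subtype.ext (show a = b from by rw [← one_smul G a, ← h5]; exact hu))
  have h4 := four_dvd_moved hG (α := G ⧸ H) hs2
  have hsum := Classification.card_moved_add_fixed (α := G ⧸ H) (s : G)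
  rw [← index_eq_card, hidx] at h4 hsum
  omega

theorem not_5460 (hG : ¬ IsMulCommutative G) : Nat.card G ≠ 5460 := by
  intro hn
  have : Fact (Nat.Prime 2) := ⟨Nat.prime_two⟩
  have : Fact (Nat.Prime 3) := ⟨by norm_num⟩
  have : Fact (Nat.Prime 5) := ⟨by norm_num⟩
  have : Fact (Nat.Prime 7) := ⟨by norm_num⟩
  have : Fact (Nat.Prime 13) := ⟨by norm_num⟩
  have h13 := sylow_mem hG (q := 13) (a := 1) (m := 420) (by rw [hn]; norm_num) (by norm_num)
    (by norm_num) (by norm_num) [105] (by decide +kernel)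
  have h7 := sylow_mem hG (q := 7) (a := 1) (m := 780) (by rw [hn]; norm_num) (by norm_num)
    (by norm_num) (by norm_num) [78, 260] (by decide +kernel)
  have h5 := sylow_mem hG (q := 5) (a := 1) (m := 1092) (by rw [hn]; norm_num) (by norm_num)
    (by norm_num) (by norm_num) [91, 546] (by decide +kernel)
  have h3 := sylow_mem hG (q := 3) (a := 1) (m := 1820) (by rw [hn]; norm_num) (by norm_num)
    (by norm_num) (by norm_num) [70, 91, 130, 910] (by decide +kernel)
  have hR3 : ∀ R : Sylow 3 G, Nat.card ↥(R : Subgroup G) = 3 := fun R =>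
    (card_sylow_eq (a := 1) (m := 1820) (by rw [hn]; norm_num) (by norm_num) R).trans (pow_one 3)
  have hR5 : ∀ R : Sylow 5 G, Nat.card ↥(R : Subgroup G) = 5 := fun R =>
    (card_sylow_eq (a := 1) (m := 1092) (by rw [hn]; norm_num) (by norm_num) R).trans (pow_one 5)
  have hR7 : ∀ R : Sylow 7 G, Nat.card ↥(R : Subgroup G) = 7 := fun R =>
    (card_sylow_eq (a := 1) (m := 780) (by rw [hn]; norm_num) (by norm_num) R).trans (pow_one 7)
  have hR13 : ∀ R : Sylow 13 G, Nat.card ↥(R : Subgroup G) = 13 := fun R =>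
    (card_sylow_eq (a := 1) (m := 420) (by rw [hn]; norm_num) (by norm_num) R).trans (pow_one 13)
  rw [List.mem_singleton] at h13
  simp only [List.mem_cons, List.not_mem_nil, or_false] at h7 h5 h3
  -- `n_7 = 260`
  have h7' : Nat.card (Sylow 7 G) = 260 := by
    refine h7.resolve_left fun h7 => ?_
    obtain ⟨S⟩ := (inferInstance : Nonempty (Sylow 7 G))
    obtain ⟨hS, -, e, he, he2, heN, -, hC, -⟩ := shape_eq hG (q := 7) (m := 780) (N := 70)
      (by rw [hn]; norm_num) (by norm_num) h7 (by norm_num) S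
    have he' : e = 2 := by
      have : e ≤ 6 := Nat.divisor_le he
      interval_cases e <;> revert he heN <;> decide
    subst he'
    have h := cross_normalizer S hS hR5 (by rw [hC]; norm_num)
    rw [hn] at h
    rcases h5 with h5 | h5 <;> rw [h5] at h <;> revert h <;> decide
  -- `n_3 = 91`
  have h3' : Nat.card (Sylow 3 G) = 91 := by
    rcases h3 with h3 | h3 | h3 | h3
    · exfalso
      obtain ⟨S⟩ := (inferInstance : Nonempty (Sylow 3 G))
      obtain ⟨hS, -, e, he, he2, -, -, hC, -⟩ := shape_eq hG (q := 3) (m := 1820) (N := 78)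
        (by rw [hn]; norm_num) (by norm_num) h3 (by norm_num) S
      have he' : e = 2 := by
        have : e ≤ 2 := Nat.divisor_le he
        omega
      subst he'
      have h := cross_normalizer S hS hR13 (by rw [hC]; norm_num)
      rw [hn, h13] at h
      revert h; decide
    · exact h3
    · exfalso
      obtain ⟨S⟩ := (inferInstance : Nonempty (Sylow 3 G))
      obtain ⟨hS, -, e, he, he2, -, -, hC, -⟩ := shape_eq hG (q := 3) (m := 1820) (N := 42)
        (by rw [hn]; norm_num) (by norm_num) h3 (by norm_num) S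
      have he' : e = 2 := by
        have : e ≤ 2 := Nat.divisor_le he
        omega
      subst he'
      obtain ⟨T, hT⟩ := cross S hS hR7 (by rw [hC]; norm_num)
      obtain ⟨-, -, e, he, he2, heN, hq', hC', -⟩ := shape_eq hG (q := 7) (m := 780) (N := 21)
        (by rw [hn]; norm_num) (by norm_num) h7' (by norm_num) T
      rw [hC'] at hT
      have : e ≤ 6 := Nat.divisor_le he
      interval_cases e <;> revert he heN hT <;> decide
    · rcases h5 with h5 | h5
      · exfalso
        obtain ⟨S⟩ := (inferInstance : Nonempty (Sylow 5 G))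
        obtain ⟨hS, -, e, he, he2, heN, hq', hC, -⟩ := shape_eq hG (q := 5) (m := 1092) (N := 60)
          (by rw [hn]; norm_num) (by norm_num) h5 (by norm_num) S
        have h := cross_normalizer S hS hR3 (by
          rw [hC]
          have : e ≤ 4 := Nat.divisor_le he
          interval_cases e <;> revert he heN hq' <;> decide)
        rw [hn, h3] at h
        revert h; decide
      · exfalso
        have h := card_three_orders (G := G) (p := 5) (q := 7) (r := 3) (by norm_num) (by norm_num)
          (by norm_num) hR5 hR7 hR3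
        rw [h5, h7', h3, hn] at h
        omega
  -- an involution centralising a Sylow `13`-subgroup
  obtain ⟨P⟩ := (inferInstance : Nonempty (Sylow 13 G))
  obtain ⟨hP, hN, -⟩ := shape_eq hG (q := 13) (m := 420) (N := 52)
    (by rw [hn]; norm_num) (by norm_num) h13 (by norm_num) P
  have hT4 : ∀ T : Sylow 2 G, Nat.card ↥(T : Subgroup G) = 2 ^ 2 := fun T =>
    card_sylow_eq (a := 2) (m := 1365) (by rw [hn]; norm_num) (by norm_num) T
  obtain ⟨T, hTN⟩ := exists_sylow_le (p := 2) (normalizer ((P : Subgroup G) : Set G))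
    (fun T => by rw [hT4 T, hN]; norm_num)
  obtain ⟨x, hx, hx1, hxo, hxz⟩ := exists_generator hP
  have hord : ∀ a ∈ (T : Subgroup G), a ≠ 1 → orderOf a = 2 := by
    intro a ha ha1
    obtain ⟨k, hk, hak⟩ := (Nat.dvd_prime_pow Nat.prime_two).mp
      (hT4 T ▸ Subgroup.orderOf_dvd_natCard _ ha)
    interval_cases k
    · rw [pow_zero, orderOf_eq_one_iff] at hak; exact absurd hak ha1
    · rw [hak, pow_one]
    · refine absurd ?_ (not_isCyclic_sylow_minFac hG
        ((Nat.minFac_eq_two_iff _).mpr (by rw [hn]; norm_num)) T)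
      exact isCyclic_of_orderOf_eq_card ⟨a, ha⟩ (by rw [Subgroup.orderOf_mk, hak, hT4 T])
  obtain ⟨w, hw, hwC⟩ : ∃ w : G, orderOf w = 2 ∧ w ∈ centralizer ((P : Subgroup G) : Set G) := by
    by_contra hno
    push Not at hno
    have hinv : ∀ a ∈ (T : Subgroup G), a ≠ 1 → a * x * a⁻¹ = x⁻¹ := by
      intro a ha ha1
      refine (conj_eq_or_inv (by rw [← hord a ha ha1, pow_orderOf_eq_one]) hxo
        (hxz.symm ▸ (mem_normalizer_iff.mp (hTN ha) x).mp hx)).resolve_left fun h => ?_
      refine hno a (hord a ha ha1) ?_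
      rw [mem_centralizer_iff, ← hxz]
      intro b hb
      obtain ⟨k, rfl⟩ := mem_zpowers_iff.mp hb
      exact (Commute.zpow_left (mul_inv_eq_iff_eq_mul.mp h).symm k).eq
    have hnt : Nontrivial ↥(T : Subgroup G) := Finite.one_lt_card_iff_nontrivial.mp (by rw [hT4 T]; norm_num)
    obtain ⟨⟨a, ha⟩, ha1⟩ := exists_ne (1 : ↥(T : Subgroup G))
    have ha1' : a ≠ 1 := fun h => ha1 (Subtype.ext h)
    obtain ⟨b, hb, hb1, hab⟩ : ∃ b ∈ (T : Subgroup G), b ≠ 1 ∧ b ≠ a := by
      by_contra hc
      push Not at hc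
      have hle : (T : Subgroup G) ≤ zpowers a := fun b hb => by
        by_cases hb1 : b = 1
        · rw [hb1]; exact one_mem _
        · rw [hc b hb hb1]; exact mem_zpowers a
      have := Subgroup.card_dvd_of_le hle
      rw [hT4 T, Nat.card_zpowers, hord a ha ha1'] at this
      norm_num at this
    have hab1 : a * b ≠ 1 := fun h => hab (by
      rw [← inv_eq_of_mul_eq_one_right h]
      exact inv_eq_of_mul_eq_one_left (by rw [← pow_two, ← hord a ha ha1', pow_orderOf_eq_one]))
    have h := hinv (a * b) (mul_mem ha hb) hab1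
    rw [show a * b * x * (a * b)⁻¹ = a * (b * x * b⁻¹) * a⁻¹ by group, hinv b hb hb1,
      show a * x⁻¹ * a⁻¹ = (a * x * a⁻¹)⁻¹ by group, hinv a ha ha1', inv_inv] at h
    have h2 : x ^ 2 = 1 := by rw [pow_two]; nth_rw 1 [h]; exact inv_mul_cancel x
    have := orderOf_dvd_of_pow_eq_one h2
    rw [hxo] at this
    norm_num at this
  -- its class
  obtain ⟨S⟩ := (inferInstance : Nonempty (Sylow 3 G))
  obtain ⟨hS, -, e, he, he2, -, -, hCS, -⟩ := shape_eq hG (q := 3) (m := 1820) (N := 60)
    (by rw [hn]; norm_num) (by norm_num) h3' (by norm_num) S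
  have he' : e = 2 := by
    have : e ≤ 2 := Nat.divisor_le he
    omega
  subst he'
  obtain ⟨t, ht⟩ := exists_prime_orderOf_dvd_card'
    (G := centralizer ((S : Subgroup G) : Set G)) 2 (by rw [hCS]; norm_num)
  rw [← Subgroup.orderOf_coe] at ht
  have hconj := isConj_involutions hG (fun T => (hT4 T).trans (by norm_num)) hw ht
  have hcls : Nat.card {g : G // IsConj w g} = Nat.card {g : G // IsConj (t : G) g} :=
    Nat.card_congr (Equiv.subtypeEquivRight fun g => ⟨hconj.symm.trans, hconj.trans⟩)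
  have hmul := card_conj_mul_centralizer (t : G)
  rw [hn] at hmul
  have h12 : 12 ∣ Nat.card ↥(centralizer ({(t : G)} : Set G)) := by
    refine Nat.Coprime.mul_dvd_of_dvd_of_dvd (m := 4) (n := 3) (by norm_num) ?_ (by
      have h := Subgroup.card_dvd_of_le (le_centralizer_singleton t.2)
      rwa [hS] at h)
    obtain ⟨T', hT'⟩ := exists_mem_sylow ht
    have h4 := Subgroup.card_dvd_of_le (show (T' : Subgroup G) ≤ centralizer ({(t : G)} : Set G) from
      fun a ha => mem_centralizer_singleton_iff.mpr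
        (comm_of_mem_sylow (fun T => hT4 T) T' ha hT'))
    rwa [hT4 T'] at h4
  have hf := sylow_dvd_fixed_mul_class P w
  rw [h13, hcls] at hf
  have h455 : Nat.card {g : G // IsConj (t : G) g} ∣ 455 := by
    obtain ⟨k, hk⟩ := h12
    rw [hk] at hmul
    exact ⟨k, Nat.eq_of_mul_eq_mul_left (by norm_num : 0 < 12) (by linarith)⟩
  -- the fixed points of `w`
  set N := normalizer ((P : Subgroup G) : Set G)
  have hw2 : w ^ 2 = 1 := by rw [← hw, pow_orderOf_eq_one]
  have hq : 13 ∣ Nat.card {a : G ⧸ N // w • a ≠ a} := by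
    refine Classification.dvd_card_moved_of_commute (mem_centralizer_iff.mp hwC x hx)
      (hxo ▸ pow_orderOf_eq_one x) fun a ha hxa => ?_
    have h1 : a ∈ fixedBy (G ⧸ N) x := hxa
    rw [fixedBy_eq_base P hP hx hx1, Set.mem_singleton_iff] at h1
    refine ha ?_
    rw [h1]
    exact (mk_mem_fixedBy_iff N w 1).mpr
      (by rw [inv_one, one_mul, mul_one]; exact centralizer_le_normalizer _ hwC)
  have hN' : N ≠ ⊤ := fun h => by rw [h, card_top, hn] at hN; omega
  have hpos := Classification.card_moved_pos N hN' (y := w) (fun h => by rw [h, orderOf_one] at hw; omega)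
  have h4 := Classification.four_dvd_card_moved hG N hw2
  have hsum := Classification.card_moved_add_fixed (α := G ⧸ N) w
  rw [← index_eq_card, show N.index = 105 from P.card_eq_index_normalizer.symm.trans h13] at hsum
  generalize Nat.card {a : G ⧸ N // w • a ≠ a} = mv at hq hpos h4 hsum
  generalize Nat.card (fixedBy (G ⧸ N) w) = f at hf hsum
  have h105 : 3 ∣ f := by
    have h3d : 3 ∣ f * Nat.card {g : G // IsConj (t : G) g} := dvd_trans (by norm_num) hf
    rcases (Nat.Prime.dvd_mul (by norm_num : Nat.Prime 3)).mp h3d with h | h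
    · exact h
    · exact absurd (h.trans h455) (by norm_num)
  omega

end Cfsg.Agent.SO89
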