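import Cfsg.Agent.SO89.OrdersB

set_option autoImplicit false

/-!
# Orders killed through Sylow subgroups of order twenty-five
-/

namespace Cfsg.Agent.SO89

open Subgroup SmallGroups MulAction

variable {G : Type*} [Group G] [Finite G]

/-- No subgroup of order `150` or `450` has several Sylow `5`-subgroups. -/
theorem card_sylow_five_eq_one (H : Subgroup G) (h : Nat.card H = 150 ∨ Nat.card H = 450) :
    Nat.card (Sylow 5 H) = 1 := by
  have : Fact (Nat.Prime 5) := ⟨by norm_num⟩
  rcases h with h | h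
  · exact card_sylow_eq_one_of_two_mul (o := 75) (a := 2) (m := 3) (by norm_num) H
      (by rw [h]) (by norm_num) (by norm_num) (by norm_num) (by decide)
  · exact card_sylow_eq_one_of_two_mul (o := 225) (a := 2) (m := 9) (by norm_num) H
      (by rw [h]) (by norm_num) (by norm_num) (by norm_num) (by decide)

set_option synthInstance.maxSize 2000 in
theorem ok_4200_75 : ∀ i ∈ (75 : ℕ).divisors, ∀ j < 250, cutOK 4200 5 i j = true → i * j ≠ 150 →
    i * j ≠ 450 → (i, j) ∈ ([] : List (ℕ × ℕ)) := by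
  decide +kernel

set_option synthInstance.maxSize 2000 in
theorem ok_5400_150 : ∀ i ∈ (150 : ℕ).divisors, ∀ j < 250, cutOK 5400 5 i j = true → i * j ≠ 150 →
    i * j ≠ 450 → (i, j) ∈ ([(50, 6)] : List (ℕ × ℕ)) := by
  decide +kernel

set_option synthInstance.maxSize 2000 in
theorem ok_5600_100 : ∀ i ∈ (100 : ℕ).divisors, ∀ j < 250, cutOK 5600 5 i j = true → i * j ≠ 150 →
    i * j ≠ 450 → (i, j) ∈ ([(25, 16)] : List (ℕ × ℕ)) := by
  decide +kernel

set_option synthInstance.maxSize 2000 in
theorem ok_4800_300 : ∀ i ∈ (300 : ℕ).divisors, ∀ j < 250, cutOK 4800 5 i j = true → i * j ≠ 150 →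
    i * j ≠ 450 → (i, j) ∈ ([(25, 16), (50, 6)] : List (ℕ × ℕ)) := by
  decide +kernel

set_option synthInstance.maxSize 2000 in
theorem ok_4800_50 : ∀ i ∈ (50 : ℕ).divisors, ∀ j < 250, cutOK 4800 5 i j = true → i * j ≠ 150 →
    i * j ≠ 450 → (i, j) ∈ ([(25, 16), (50, 6)] : List (ℕ × ℕ)) := by
  decide +kernel

variable [IsSimpleGroup G]

/-- The possible `(i, j)` for a cut, with the two impossible shapes removed. -/
theorem cut_mem (hG : ¬ IsMulCommutative G) {n N : ℕ} (hn : Nat.card G = n) [Fact (Nat.Prime 5)]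
    (hQ : ∀ S : Sylow 5 G, Nat.card ↥(S : Subgroup G) = 5 ^ 2) (Q : Sylow 5 G)
    (hN : Nat.card ↥(normalizer ((Q : Subgroup G) : Set G)) = N) (D : Cuts Q) (L : List (ℕ × ℕ))
    (hn6 : n ≤ 6232) (hN0 : 0 < N)
    (h : ∀ i ∈ N.divisors, ∀ j < 250, cutOK n 5 i j = true → i * j ≠ 150 → i * j ≠ 450 →
      (i, j) ∈ L) :
    ∃ i j, (i, j) ∈ L ∧ i * j = Nat.card ↥(normalizer ((D.1 : Subgroup G) : Set G)) ∧
      Nat.card {R : Meet Q // cut Q R = D} + 1 = j ∧
      i * (normalizer ((D.1 : Subgroup G) : Set G)).relIndex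
        (normalizer ((Q : Subgroup G) : Set G)) = N := by
  obtain ⟨i, j, hok, hj, hH, hrel⟩ := cut_data hG hQ Q D
  have hf := (card_fiber hQ Q D).trans hj
  rw [hN] at hrel
  rw [hn] at hok
  refine ⟨i, j, h i (Nat.mem_divisors.mpr ⟨⟨_, hrel.symm⟩, hN0.ne'⟩) j ?_ hok ?_ ?_, hH.symm, hf, hrel⟩
  · simp only [cutOK, Bool.and_eq_true, decide_eq_true_eq] at hok
    obtain ⟨⟨⟨⟨⟨hi, -⟩, -⟩, hd⟩, -⟩, -⟩ := hok
    have hi0 : i ≠ 0 := fun h0 => by rw [h0, zero_mul] at hrel; omega
    have : 25 ≤ i := Nat.le_of_dvd (by omega) (Nat.dvd_of_mod_eq_zero hi)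
    have h1 : i * j ≤ n := Nat.le_of_dvd (by rw [← hn]; exact Nat.card_pos) (Nat.dvd_of_mod_eq_zero hd)
    have := Nat.mul_le_mul_right j this
    omega
  · intro h150
    have hne : j ≠ 1 := by
      simp only [cutOK, Bool.and_eq_true, decide_eq_true_eq] at hok
      exact hok.1.1.1.2
    exact hne (hj ▸ card_sylow_five_eq_one _ (Or.inl (hH.trans h150)))
  · intro h450
    have hne : j ≠ 1 := by
      simp only [cutOK, Bool.and_eq_true, decide_eq_true_eq] at hok
      exact hok.1.1.1.2
    exact hne (hj ▸ card_sylow_five_eq_one _ (Or.inr (hH.trans h450)))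

theorem not_4200 (hG : ¬ IsMulCommutative G) : Nat.card G ≠ 4200 := by
  intro hn
  classical
  have : Fact (Nat.Prime 2) := ⟨Nat.prime_two⟩
  have : Fact (Nat.Prime 5) := ⟨by norm_num⟩
  have : Fact (Nat.Prime 7) := ⟨by norm_num⟩
  have h7 := sylow_mem hG (q := 7) (a := 1) (m := 600) (by rw [hn]; norm_num) (by norm_num)
    (by norm_num) (by norm_num) [50] (by decide +kernel)
  have h5 := sylow_mem hG (q := 5) (a := 2) (m := 168) (by rw [hn]; norm_num) (by norm_num)
    (by norm_num) (by norm_num) [21, 56] (by decide +kernel)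
  have hQ : ∀ S : Sylow 5 G, Nat.card ↥(S : Subgroup G) = 5 ^ 2 := fun S =>
    card_sylow_eq (a := 2) (m := 168) (by rw [hn]; norm_num) (by norm_num) S
  obtain ⟨Q⟩ := (inferInstance : Nonempty (Sylow 5 G))
  simp only [List.mem_cons, List.not_mem_nil, or_false] at h5
  rcases h5 with h5 | h5
  · obtain ⟨P⟩ := (inferInstance : Nonempty (Sylow 7 G))
    obtain ⟨hP, hN, e, he, he2, heN, heq, hC, -⟩ := shape_eq hG (q := 7) (m := 600) (N := 84)
      (by rw [hn]; norm_num) (by norm_num) (List.mem_singleton.mp h7) (by norm_num) P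
    obtain ⟨t, ht⟩ := exists_prime_orderOf_dvd_card'
      (G := centralizer ((P : Subgroup G) : Set G)) 2 (by
        rw [hC]
        have : e ≤ 6 := Nat.divisor_le he
        interval_cases e <;> revert he heN heq <;> decide)
    rw [← Subgroup.orderOf_coe] at ht
    obtain ⟨x, hx, -, hxo, -⟩ := exists_generator hP
    have hH := normalizer_conj_eq_card Q h5 (k := 200) (by rw [hn])
    have hidx : (normalizer ((Q : Subgroup G) : Set G)).index = 21 :=
      Q.card_eq_index_normalizer.symm.trans h5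
    exact small_action hG (q := 7) (r := 2) (by norm_num) (H := normalizer ((Q : Subgroup G) : Set G))
      (fun h => by rw [h, index_top] at hidx; omega) hxo ht
      (mem_centralizer_iff.mp t.2 x hx) (by rw [hidx]; decide) (Or.inl (by rw [hH]; norm_num))
  · have hN := normalizer_conj_eq_card Q h5 (k := 75) (by rw [hn])
    have : IsEmpty (Cuts Q) := ⟨fun D => by
      obtain ⟨i, j, hmem, -⟩ := cut_mem hG hn hQ Q hN D [] (by norm_num) (by norm_num)
        ok_4200_75
      simp at hmem⟩
    obtain ⟨t, ht⟩ := card_sylow_eq_sum hQ Q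
    have := Fintype.ofFinite (Cuts Q)
    rw [ht, Finset.univ_eq_empty, Finset.sum_empty] at h5
    omega

theorem not_5400 (hG : ¬ IsMulCommutative G) : Nat.card G ≠ 5400 := by
  intro hn
  classical
  have : Fact (Nat.Prime 5) := ⟨by norm_num⟩
  have h5 := sylow_mem hG (q := 5) (a := 2) (m := 216) (by rw [hn]; norm_num) (by norm_num)
    (by norm_num) (by norm_num) [36, 216] (by decide +kernel)
  have hQ : ∀ S : Sylow 5 G, Nat.card ↥(S : Subgroup G) = 5 ^ 2 := fun S =>
    card_sylow_eq (a := 2) (m := 216) (by rw [hn]; norm_num) (by norm_num) S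
  obtain ⟨Q⟩ := (inferInstance : Nonempty (Sylow 5 G))
  simp only [List.mem_cons, List.not_mem_nil, or_false] at h5
  rcases h5 with h5 | h5
  · have hN := normalizer_conj_eq_card Q h5 (k := 150) (by rw [hn])
    have hall : ∀ D : Cuts Q, Nat.card {R : Meet Q // cut Q R = D} = 5 ∧ 3 ≤ Nat.card (Cuts Q) := by
      intro D
      obtain ⟨i, j, hmem, -, hf, hrel⟩ := cut_mem hG hn hQ Q hN D [(50, 6)] (by norm_num)
        (by norm_num) ok_5400_150
      simp only [List.mem_singleton, Prod.mk.injEq] at hmem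
      obtain ⟨rfl, rfl⟩ := hmem
      have := index_le_card_cuts Q D
      omega
    obtain ⟨t, ht⟩ := card_sylow_eq_sum hQ Q
    have := Fintype.ofFinite (Cuts Q)
    rw [ht, Finset.sum_congr rfl (fun D _ => (hall D).1), Finset.sum_const, Finset.card_univ,
      ← Nat.card_eq_fintype_card, smul_eq_mul] at h5
    have hle := card_cuts_le hQ Q
    rcases isEmpty_or_nonempty (Cuts Q) with hE | ⟨⟨D⟩⟩
    · rw [Nat.card_eq_zero.mpr (Or.inl hE)] at h5; omega
    · have := (hall D).2
      norm_num1 at hle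
      omega
  · have hH := normalizer_conj_eq_card Q h5 (k := 25) (by rw [hn])
    refine not_normalizer_le_centralizer hG (by rw [hn]; norm_num) Q ?_
    rw [← (eq_of_le_of_card_ge le_normalizer (by rw [hH, hQ]; norm_num) :
      (Q : Subgroup G) = normalizer ((Q : Subgroup G) : Set G))]
    exact sylow_le_centralizer_of_le hQ Q le_rfl

theorem not_5600 (hG : ¬ IsMulCommutative G) : Nat.card G ≠ 5600 := by
  intro hn
  classical
  have : Fact (Nat.Prime 5) := ⟨by norm_num⟩
  have : Fact (Nat.Prime 7) := ⟨by norm_num⟩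
  have h5 := sylow_mem hG (q := 5) (a := 2) (m := 224) (by rw [hn]; norm_num) (by norm_num)
    (by norm_num) (by norm_num) [16, 56] (by decide +kernel)
  have h7 := sylow_mem hG (q := 7) (a := 1) (m := 800) (by rw [hn]; norm_num) (by norm_num)
    (by norm_num) (by norm_num) [50, 400] (by decide +kernel)
  have hQ : ∀ S : Sylow 5 G, Nat.card ↥(S : Subgroup G) = 5 ^ 2 := fun S =>
    card_sylow_eq (a := 2) (m := 224) (by rw [hn]; norm_num) (by norm_num) S
  obtain ⟨Q⟩ := (inferInstance : Nonempty (Sylow 5 G))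
  simp only [List.mem_cons, List.not_mem_nil, or_false] at h5 h7
  rcases h5 with h5 | h5
  · have hN := normalizer_conj_eq_card Q h5 (k := 350) (by rw [hn])
    obtain ⟨x, hx⟩ := exists_prime_orderOf_dvd_card'
      (G := normalizer ((Q : Subgroup G) : Set G)) 7 (by rw [hN]; norm_num)
    rw [← Subgroup.orderOf_coe] at hx
    have hxc := centralizes_of_order (r := 5) (s := 7) (Q : Subgroup G) (hQ Q) hx x.2
      (by norm_num) (by norm_num)
    obtain ⟨P, hP⟩ := exists_mem_sylow hx
    have hP7 : Nat.card ↥(P : Subgroup G) = 7 :=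
      (card_sylow_eq (a := 1) (m := 800) (by rw [hn]; norm_num) (by norm_num) P).trans (pow_one 7)
    have hle : (Q : Subgroup G) ≤ centralizer ((P : Subgroup G) : Set G) := by
      intro a ha
      rw [mem_centralizer_iff, zpowers_eq_of_card_prime hP7 hP
        (fun h => by rw [h, orderOf_one] at hx; omega) |>.symm]
      intro b hb
      obtain ⟨k, rfl⟩ := mem_zpowers_iff.mp hb
      exact (Commute.zpow_left (mem_centralizer_iff.mp hxc a ha).symm k).eq
    have h := Subgroup.card_dvd_of_le (hle.trans (centralizer_le_normalizer _))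
    rw [hQ Q] at h
    rcases h7 with h7 | h7
    · rw [normalizer_conj_eq_card P h7 (k := 112) (by rw [hn])] at h; norm_num at h
    · rw [normalizer_conj_eq_card P h7 (k := 14) (by rw [hn])] at h; norm_num at h
  · have hN := normalizer_conj_eq_card Q h5 (k := 100) (by rw [hn])
    have hall : ∀ D : Cuts Q, Nat.card {R : Meet Q // cut Q R = D} = 15 ∧ 4 ≤ Nat.card (Cuts Q) := by
      intro D
      obtain ⟨i, j, hmem, -, hf, hrel⟩ := cut_mem hG hn hQ Q hN D [(25, 16)] (by norm_num)
        (by norm_num) ok_5600_100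
      simp only [List.mem_singleton, Prod.mk.injEq] at hmem
      obtain ⟨rfl, rfl⟩ := hmem
      have := index_le_card_cuts Q D
      omega
    obtain ⟨t, ht⟩ := card_sylow_eq_sum hQ Q
    have := Fintype.ofFinite (Cuts Q)
    rw [ht, Finset.sum_congr rfl (fun D _ => (hall D).1), Finset.sum_const, Finset.card_univ,
      ← Nat.card_eq_fintype_card, smul_eq_mul] at h5
    rcases isEmpty_or_nonempty (Cuts Q) with hE | ⟨⟨D⟩⟩
    · rw [Nat.card_eq_zero.mpr (Or.inl hE)] at h5; omega
    · have := (hall D).2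
      omega

omit [IsSimpleGroup G] in
/-- In `4800`, a cut whose normaliser has order `300` is central in it. -/
theorem central_cut (hQ : ∀ S : Sylow 5 G, Nat.card ↥(S : Subgroup G) = 5 ^ 2) [Fact (Nat.Prime 5)]
    (Q : Sylow 5 G) (D : Cuts Q)
    (h300 : Nat.card ↥(normalizer ((D.1 : Subgroup G) : Set G)) = 300) :
    centralizer ((D.1 : Subgroup G) : Set G) = normalizer ((D.1 : Subgroup G) : Set G) := by
  obtain ⟨R, hR⟩ := D.2
  have hDQ : D.1 ≤ (Q : Subgroup G) := hR ▸ inf_le_left
  have hDR : D.1 ≤ (R.1 : Subgroup G) := hR ▸ inf_le_right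
  set C := centralizer ((D.1 : Subgroup G) : Set G)
  have hQC := sylow_le_centralizer_of_le hQ Q hDQ
  have hRC := sylow_le_centralizer_of_le hQ R.1 hDR
  have hdvd : Nat.card C ∣ 300 := h300 ▸ Subgroup.card_dvd_of_le (centralizer_le_normalizer _)
  have h25 : 5 ^ 2 ∣ Nat.card C := by
    have h := Subgroup.card_dvd_of_le hQC
    rwa [hQ Q] at h
  have hj1 : Nat.card (Sylow 5 C) ≠ 1 := by
    intro h
    have hs := (Nat.card_eq_one_iff_unique.mp h).1
    have heq : Q = R.1 := Sylow.subtype_injective (hP := hQC) (hQ := hRC) (hs.elim _ _)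
    have h2 := R.2
    rw [← heq, inf_idem, hQ Q] at h2
    norm_num at h2
  obtain ⟨k, hk⟩ := h25
  have hk12 : k ∣ 12 := by
    rw [hk] at hdvd
    exact Nat.dvd_of_mul_dvd_mul_left (by norm_num : 0 < 5 ^ 2) hdvd
  have hk' : k ≤ 12 := Nat.le_of_dvd (by norm_num) hk12
  have hm := card_sylow_mem (G := C) (p := 5) (a := 2) (m := k) hk (by
    intro h5; exact absurd (h5.trans hk12) (by norm_num))
  have hj6 : Nat.card (Sylow 5 C) = 6 := by
    obtain ⟨h1, h2⟩ := hm
    generalize Nat.card (Sylow 5 C) = j at h1 h2 hj1 ⊢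
    have hle : j ≤ 12 := Nat.le_of_dvd (by norm_num) (h1.trans hk12)
    have h12 := h1.trans hk12
    interval_cases j <;> simp_all
  rw [hj6] at hm
  obtain ⟨l, hl⟩ := hm.1
  have hk0 : k ≠ 0 := fun h => by rw [h, mul_zero] at hk; exact Nat.card_pos.ne' hk
  have hl2 : l = 1 ∨ l = 2 := by omega
  rcases hl2 with rfl | rfl
  · exact absurd (card_sylow_five_eq_one C (Or.inl (by rw [hk, hl]; norm_num))) hj1
  · exact eq_of_le_of_card_ge (centralizer_le_normalizer _) (by rw [h300, hk, hl]; norm_num)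

theorem not_4800 (hG : ¬ IsMulCommutative G) : Nat.card G ≠ 4800 := by
  intro hn
  classical
  have : Fact (Nat.Prime 2) := ⟨Nat.prime_two⟩
  have : Fact (Nat.Prime 5) := ⟨by norm_num⟩
  have h5 := sylow_mem hG (q := 5) (a := 2) (m := 192) (by rw [hn]; norm_num) (by norm_num)
    (by norm_num) (by norm_num) [16, 96] (by decide +kernel)
  have hQ : ∀ S : Sylow 5 G, Nat.card ↥(S : Subgroup G) = 5 ^ 2 := fun S =>
    card_sylow_eq (a := 2) (m := 192) (by rw [hn]; norm_num) (by norm_num) S
  obtain ⟨Q⟩ := (inferInstance : Nonempty (Sylow 5 G))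
  simp only [List.mem_cons, List.not_mem_nil, or_false] at h5
  obtain ⟨t, ht⟩ := card_sylow_eq_sum hQ Q
  have := Fintype.ofFinite (Cuts Q)
  rcases h5 with h5 | h5
  · have hN := normalizer_conj_eq_card Q h5 (k := 300) (by rw [hn])
    have hall : ∀ D : Cuts Q, 5 ≤ Nat.card {R : Meet Q // cut Q R = D} ∧ 6 ≤ Nat.card (Cuts Q) := by
      intro D
      obtain ⟨i, j, hmem, -, hf, hrel⟩ := cut_mem hG hn hQ Q hN D [(25, 16), (50, 6)] (by norm_num)
        (by norm_num) ok_4800_300
      have := index_le_card_cuts Q D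
      simp only [List.mem_cons, List.not_mem_nil, or_false, Prod.mk.injEq] at hmem
      rcases hmem with ⟨rfl, rfl⟩ | ⟨rfl, rfl⟩ <;> omega
    have hsum : Nat.card (Cuts Q) * 5 ≤ ∑ D : Cuts Q, Nat.card {R : Meet Q // cut Q R = D} := by
      rw [Nat.card_eq_fintype_card, ← Finset.card_univ, ← smul_eq_mul, ← Finset.sum_const]
      exact Finset.sum_le_sum fun D _ => (hall D).1
    rw [ht] at h5
    rcases isEmpty_or_nonempty (Cuts Q) with hE | ⟨⟨D⟩⟩
    · rw [Finset.univ_eq_empty, Finset.sum_empty] at h5; omega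
    · have := (hall D).2
      omega
  · have hN := normalizer_conj_eq_card Q h5 (k := 50) (by rw [hn])
    set N := normalizer ((Q : Subgroup G) : Set G) with hNdef
    obtain ⟨s, hs⟩ := exists_prime_orderOf_dvd_card' (G := N) 2 (by rw [hN]; norm_num)
    rw [← Subgroup.orderOf_coe] at hs
    let F : Cuts Q → Prop := fun D => N ≤ normalizer ((D.1 : Subgroup G) : Set G)
    have hfix : ∀ D, F D → Nat.card {R : Meet Q // cut Q R = D} = 5 ∧
        Nat.card ↥(normalizer ((D.1 : Subgroup G) : Set G)) = 300 := by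
      intro D hD
      obtain ⟨i, j, hmem, hH, hf, hrel⟩ := cut_mem hG hn hQ Q hN D [(25, 16), (50, 6)] (by norm_num)
        (by norm_num) ok_4800_50
      rw [← hNdef, relIndex_eq_one.mpr hD] at hrel
      simp only [List.mem_cons, List.not_mem_nil, or_false, Prod.mk.injEq] at hmem
      rcases hmem with ⟨rfl, rfl⟩ | ⟨rfl, rfl⟩
      · omega
      · exact ⟨by omega, by omega⟩
    have hmov : ∀ D, ¬ F D → Nat.card {R : Meet Q // cut Q R = D} = 15 := by
      intro D hD
      obtain ⟨i, j, hmem, hH, hf, hrel⟩ := cut_mem hG hn hQ Q hN D [(25, 16), (50, 6)] (by norm_num)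
        (by norm_num) ok_4800_50
      simp only [List.mem_cons, List.not_mem_nil, or_false, Prod.mk.injEq] at hmem
      rcases hmem with ⟨rfl, rfl⟩ | ⟨rfl, rfl⟩
      · omega
      · exact absurd (relIndex_eq_one.mp (Nat.eq_of_mul_eq_mul_left (by norm_num : 0 < 50)
          (hrel.trans (by norm_num)))) hD
    -- at most one fixed cut
    have hone : Nat.card {D // F D} ≤ 1 := by
      refine Finite.card_le_one_iff_subsingleton.mpr ⟨fun ⟨D, hD⟩ ⟨D', hD'⟩ => ?_⟩
      refine Subtype.ext (by_contra fun hne => ?_)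
      refine not_normalizer_le_centralizer hG (by rw [hn]; norm_num) Q ?_
      have hdc : ∀ E : Cuts Q, Nat.card E.1 = 5 ∧ E.1 ≤ (Q : Subgroup G) := fun E => by
        obtain ⟨R, hR⟩ := E.2; exact ⟨hR ▸ R.2, hR ▸ inf_le_left⟩
      have heq : D.1 ⊔ D'.1 = (Q : Subgroup G) := by
        refine eq_of_le_of_card_ge (sup_le (hdc D).2 (hdc D').2) ?_
        obtain ⟨i, hi, hc⟩ := (Nat.dvd_prime_pow (by norm_num : Nat.Prime 5)).mp
          (hQ Q ▸ Subgroup.card_dvd_of_le (sup_le (hdc D).2 (hdc D').2) :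
            Nat.card (D.1 ⊔ D'.1 : Subgroup G) ∣ 5 ^ 2)
        rw [hQ Q, hc]
        interval_cases i
        · have := Nat.le_of_dvd (by norm_num) (hc ▸ Subgroup.card_dvd_of_le (le_sup_left : D.1 ≤ D.1 ⊔ D'.1))
          rw [(hdc D).1] at this; norm_num at this
        · exfalso
          have h1 : D.1 = D.1 ⊔ D'.1 := eq_of_le_of_card_ge le_sup_left (by rw [hc, (hdc D).1, pow_one])
          have h2 : D'.1 = D.1 ⊔ D'.1 := eq_of_le_of_card_ge le_sup_right (by rw [hc, (hdc D').1, pow_one])
          exact hne (Subtype.ext (h1.trans h2.symm))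
        · exact le_rfl
      intro g hg
      have h1 : g ∈ centralizer ((D.1 : Subgroup G) : Set G) := by
        rw [central_cut hQ Q D (hfix D hD).2]; exact hD hg
      have h2 : g ∈ centralizer ((D'.1 : Subgroup G) : Set G) := by
        rw [central_cut hQ Q D' (hfix D' hD').2]; exact hD' hg
      have hle : (Q : Subgroup G) ≤ centralizer ({g} : Set G) :=
        heq ▸ sup_le (le_centralizer_singleton h1) (le_centralizer_singleton h2)
      exact mem_centralizer_iff.mpr fun a ha => mem_centralizer_singleton_iff.mp (hle ha)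
    -- the moved cuts come in pairs
    have hQH : ∀ D : Cuts Q, (Q : Subgroup G) ≤ normalizer ((D.1 : Subgroup G) : Set G) := fun D => by
      obtain ⟨R, hR⟩ := D.2
      exact (sylow_le_centralizer_of_le hQ Q (hR ▸ inf_le_left)).trans (centralizer_le_normalizer _)
    have hconj : ∀ D : Cuts Q, ∃ E : Cuts Q, E.1 = D.1.map (MulAut.conj (s : G)).toMonoidHom := by
      intro D
      obtain ⟨R, hR⟩ := D.2
      have hgQ : (s : G) • Q = Q := Sylow.smul_eq_iff_mem_normalizer.mpr s.2
      have h : (Q : Subgroup G) ⊓ (((s : G) • R.1 : Sylow 5 G) : Subgroup G) =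
          D.1.map (MulAut.conj (s : G)).toMonoidHom := by
        rw [← hR, map_inf _ _ _ (MulAut.conj (s : G)).injective]
        congr 1
        conv_lhs => rw [← hgQ, Sylow.coe_subgroup_smul]
        rfl
      exact ⟨⟨_, ⟨(s : G) • R.1, by
        rw [h, card_map_of_injective (MulAut.conj (s : G)).injective, ← hR]; exact R.2⟩, h⟩, rfl⟩
    choose σ hσ using hconj
    have hs2 : (s : G) * s = 1 := by rw [← pow_two, ← hs, pow_orderOf_eq_one]
    have hinv : ∀ D, σ (σ D) = D := fun D => Subtype.ext (by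
      rw [hσ, hσ, Subgroup.map_map]
      convert Subgroup.map_id D.1 using 2
      ext a
      show (s : G) * (s * a * (s : G)⁻¹) * (s : G)⁻¹ = a
      calc (s : G) * (s * a * (s : G)⁻¹) * (s : G)⁻¹ = (s * s) * a * ((s : G) * s)⁻¹ := by group
        _ = a := by rw [hs2]; group)
    have hσF : ∀ D, σ D = D → F D := by
      intro D hD
      have hsD : (s : G) ∈ normalizer ((D.1 : Subgroup G) : Set G) := by
        have h : D.1.map (MulAut.conj (s : G)).toMonoidHom = D.1 := (hσ D).symm.trans (congrArg Subtype.val hD)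
        rw [mem_normalizer_iff]
        intro a
        refine ⟨fun ha => h ▸ ⟨a, ha, rfl⟩, fun ha => ?_⟩
        rw [← h] at ha
        obtain ⟨b, hb, hba⟩ := ha
        exact (MulAut.conj (s : G)).injective hba ▸ hb
      set A := normalizer ((D.1 : Subgroup G) : Set G) ⊓ N
      have h50 : 50 ∣ Nat.card A := Nat.Coprime.mul_dvd_of_dvd_of_dvd (m := 2) (n := 25) (by norm_num)
        (hs ▸ Subgroup.orderOf_dvd_natCard A ⟨hsD, s.2⟩)
        ((hQ Q).symm.dvd.trans (Subgroup.card_dvd_of_le (le_inf (hQH D) le_normalizer)))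
      have hA : A = N := eq_of_le_of_card_ge inf_le_right (by rw [hN]; exact Nat.le_of_dvd Nat.card_pos h50)
      intro g hg
      rw [← hA] at hg
      exact hg.1
    have hFσ : ∀ D, F D → σ D = D := by
      intro D hD
      refine Subtype.ext ((hσ D).trans ?_)
      have hn' := mem_normalizer_iff.mp (hD s.2)
      ext a
      rw [mem_map]
      refine ⟨fun ⟨b, hb, hba⟩ => hba ▸ (hn' b).mp hb, fun ha => ⟨(s : G)⁻¹ * a * s,
        (hn' _).mpr (by rw [show (s : G) * ((s : G)⁻¹ * a * s) * (s : G)⁻¹ = a by group]; exact ha), ?_⟩⟩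
      show (s : G) * ((s : G)⁻¹ * a * s) * (s : G)⁻¹ = a
      group
    have heven : 2 ∣ Nat.card {D // ¬ F D} := by
      let τ : Equiv.Perm {D // ¬ F D} :=
        { toFun := fun D => ⟨σ D.1, fun h => D.2 (by rw [← hinv D.1, hFσ _ h]; exact h)⟩
          invFun := fun D => ⟨σ D.1, fun h => D.2 (by rw [← hinv D.1, hFσ _ h]; exact h)⟩
          left_inv := fun D => Subtype.ext (hinv D.1)
          right_inv := fun D => Subtype.ext (hinv D.1) }
      have h := Classification.card_modEq_fixed (p := 2) (σ := τ) (by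
        refine Equiv.ext fun D => Subtype.ext ?_
        rw [pow_two]
        exact hinv D.1)
      have : IsEmpty {D : {D // ¬ F D} // τ D = D} :=
        ⟨fun D => D.1.2 (hσF _ (congrArg Subtype.val D.2))⟩
      rw [Nat.card_eq_zero.mpr (Or.inl this)] at h
      exact Nat.modEq_zero_iff_dvd.mp h
    -- counting
    have hsum : ∑ D : Cuts Q, Nat.card {R : Meet Q // cut Q R = D} =
        5 * Nat.card {D // F D} + 15 * Nat.card {D // ¬ F D} := by
      rw [← Fintype.sum_subtype_add_sum_subtype F,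
        Fintype.sum_congr _ _ (fun D : {D // F D} => (hfix D.1 D.2).1),
        Fintype.sum_congr _ _ (fun D : {D // ¬ F D} => hmov D.1 D.2)]
      simp only [Finset.sum_const, Finset.card_univ, smul_eq_mul, Nat.card_eq_fintype_card]
      ring
    have hle := card_cuts_le hQ Q
    have hsplit : Nat.card {D // F D} + Nat.card {D // ¬ F D} = Nat.card (Cuts Q) := by
      rw [← Nat.card_sum]
      exact Nat.card_congr (Equiv.sumCompl F)
    rw [ht, hsum] at h5
    norm_num1 at hle
    obtain ⟨b, hb⟩ := heven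
    have : b ≤ 3 := by omega
    interval_cases b <;> omega

end Cfsg.Agent.SO89
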