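import Cfsg.Agent.SO89.OrdersB

set_option autoImplicit false

/-!
# The order 4536
-/

namespace Cfsg.Agent.SO89

open Subgroup SmallGroups MulAction

variable {G : Type*} [Group G] [Finite G] [IsSimpleGroup G]

theorem hkey_4536 : ∀ i ∈ ([14, 28] : List ℕ), ∀ j < 325, (decide (j % 7 = 1) &&
    decide (4536 % (i * j) = 0) && decide (i * j ≠ 4536) && decide ((i * j) % 8 = 0) &&
    Classification.Sieve.big 4536 (4536 / (i * j))) = true → i * j = 504 := by
  decide +kernel

theorem not_4536 (hG : ¬ IsMulCommutative G) : Nat.card G ≠ 4536 := by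
  intro hn
  classical
  have : Fact (Nat.Prime 2) := ⟨Nat.prime_two⟩
  have : Fact (Nat.Prime 3) := ⟨by norm_num⟩
  have : Fact (Nat.Prime 7) := ⟨by norm_num⟩
  have h7 := sylow_mem hG (q := 7) (a := 1) (m := 648) (by rw [hn]; norm_num) (by norm_num)
    (by norm_num) (by norm_num) [36, 162] (by decide +kernel)
  obtain ⟨P⟩ := (inferInstance : Nonempty (Sylow 7 G))
  obtain ⟨x, hx, hx1, hxo, hxz⟩ := exists_generator
    ((card_sylow_eq (a := 1) (m := 648) (by rw [hn]; norm_num) (by norm_num) P).trans (pow_one 7))
  simp only [List.mem_cons, List.not_mem_nil, or_false] at h7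
  rcases h7 with hd | hd
  · obtain ⟨hP, hN, e, he, he2, heN, -, hC, -⟩ := shape_eq hG (q := 7) (m := 648) (N := 126)
      (by rw [hn]; norm_num) (by norm_num) hd (by norm_num) P
    set N := normalizer ((P : Subgroup G) : Set G) with hNdef
    have h3C : 3 ∣ Nat.card ↥(centralizer ((P : Subgroup G) : Set G)) := by
      rw [hC]
      have : e ≤ 6 := Nat.divisor_le he
      interval_cases e <;> revert he heN <;> decide
    -- centralisers of the elements of order three centralising `P`
    have hA : ∀ y : G, orderOf y = 3 → y ∈ centralizer ((P : Subgroup G) : Set G) →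
        Nat.card ↥(centralizer ({y} : Set G)) ∣ 378 ∧ centralizer ({y} : Set G) ≤ N := by
      intro y hy hyC
      have hf := fixed_add_eq hG (r := 3) (by norm_num : (3 : ℕ) ≠ 7) P hP hy hyC (by rw [hd]; decide)
      rw [hd, show Classification.movedBlock 3 = 3 from rfl] at hf
      have hf15 : Nat.card (fixedBy (G ⧸ N) y) = 15 := by
        change Nat.card (fixedBy (G ⧸ N) y) + 3 * 7 = 36 at hf
        omega
      have hdiv := sylow_dvd_fixed_mul_class P y
      rw [← hNdef, hf15, hd] at hdiv
      have hmul := card_conj_mul_centralizer y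
      rw [hn] at hmul
      generalize Nat.card {g : G // IsConj y g} = c at hdiv hmul
      obtain ⟨k, rfl⟩ : 12 ∣ c := by omega
      have hdvd : Nat.card ↥(centralizer ({y} : Set G)) ∣ 378 :=
        ⟨k, Nat.eq_of_mul_eq_mul_left (by norm_num : 0 < 12) (by linarith)⟩
      refine ⟨hdvd, ?_⟩
      obtain ⟨i, j, hij, -, hqi, hj, hle⟩ := sub_data P (le_centralizer_singleton hyC)
      rw [hP] at hqi
      refine hle ?_
      have hj54 : j ∣ 54 := by
        obtain ⟨i', rfl⟩ := hqi
        rw [hij] at hdvd
        exact Nat.dvd_of_mul_dvd_mul_left (by norm_num : 0 < 7)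
          (dvd_trans ⟨i', by ring⟩ hdvd)
      have hj54' : j ≤ 54 := Nat.le_of_dvd (by norm_num) hj54
      revert hj hj54
      generalize j = j' at hj54' ⊢
      revert j'
      decide +kernel
    obtain ⟨y, hy⟩ := exists_prime_orderOf_dvd_card'
      (G := centralizer ((P : Subgroup G) : Set G)) 3 h3C
    rw [← Subgroup.orderOf_coe] at hy
    obtain ⟨Q, hyQ⟩ := exists_mem_sylow hy
    have hQ : Nat.card ↥(Q : Subgroup G) = 3 ^ 4 :=
      card_sylow_eq (a := 4) (m := 56) (by rw [hn]; norm_num) (by norm_num) Q
    have hnt : Nontrivial ↥(Q : Subgroup G) := Finite.one_lt_card_iff_nontrivial.mp (by rw [hQ]; norm_num)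
    have hcn : Nontrivial (center ↥(Q : Subgroup G)) := Q.2.center_nontrivial
    have hzd : 3 ∣ Nat.card (center ↥(Q : Subgroup G)) := by
      obtain ⟨k, hk⟩ := (Q.2.to_subgroup (center ↥(Q : Subgroup G))).exists_card_eq
      have h1 : 1 < Nat.card (center ↥(Q : Subgroup G)) := Finite.one_lt_card
      rcases k with _ | k
      · rw [hk, pow_zero] at h1; omega
      · rw [hk]; exact dvd_pow_self 3 (by omega)
    obtain ⟨z', hz'⟩ := exists_prime_orderOf_dvd_card' 3 hzd
    set z : G := ((z' : ↥(Q : Subgroup G)) : G) with hzdef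
    have hz : orderOf z = 3 := by rw [hzdef, Subgroup.orderOf_coe, Subgroup.orderOf_coe, hz']
    have hzQ : ∀ a ∈ (Q : Subgroup G), Commute a z := fun a ha =>
      congrArg Subtype.val (mem_center_iff.mp z'.2 ⟨a, ha⟩)
    have hQle : (Q : Subgroup G) ≤ centralizer ({z} : Set G) := fun a ha =>
      mem_centralizer_singleton_iff.mpr (hzQ a ha)
    have h81 : 81 ∣ Nat.card ↥(centralizer ({z} : Set G)) := by
      have h := Subgroup.card_dvd_of_le hQle
      rwa [hQ] at h
    have hzN : z ∈ N := (hA y hy y.2).2 (mem_centralizer_singleton_iff.mpr (hzQ y hyQ).symm)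
    by_cases hzC : z ∈ centralizer ((P : Subgroup G) : Set G)
    · exact absurd (h81.trans (hA z hz hzC).1) (by norm_num)
    have hle6 : Nat.card (fixedBy (G ⧸ N) z) ≤ 6 := by
      have h1 := Nat.card_le_card_of_injective _ (fixedBy_orbit_injective P hP hzN hzC)
      have h2 := card_orbits_mul P hP
      rw [hd] at h2
      change Nat.card (fixedBy (G ⧸ N) z) ≤
        Nat.card (orbitRel.Quotient ↥(P : Subgroup G) (G ⧸ N)) at h1
      rw [← hNdef] at h2
      omega
    have hpos : 0 < Nat.card (fixedBy (G ⧸ N) z) :=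
      Nat.card_pos_iff.mpr ⟨⟨⟨((1 : G) : G ⧸ N), (mk_mem_fixedBy_iff N z 1).mpr (by simpa using hzN)⟩⟩,
        inferInstance⟩
    have hdiv := sylow_dvd_fixed_mul_class P z
    rw [← hNdef, hd] at hdiv
    have hmul := card_conj_mul_centralizer z
    rw [hn] at hmul
    obtain ⟨k, hk⟩ := h81
    rw [hk] at hmul
    have hc56 : Nat.card {g : G // IsConj z g} ∣ 56 :=
      ⟨k, Nat.eq_of_mul_eq_mul_left (by norm_num : 0 < 81) (by linarith)⟩
    have h9 : 9 ∣ Nat.card (fixedBy (G ⧸ N) z) := by
      have hcop : Nat.Coprime 9 (Nat.card {g : G // IsConj z g}) :=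
        Nat.Coprime.coprime_dvd_right hc56 (by norm_num)
      exact hcop.dvd_of_dvd_mul_right (dvd_trans (by norm_num) hdiv)
    have := Nat.le_of_dvd hpos h9
    omega
  · obtain ⟨hP, hN, e, he, he2, heN, -, hC, -⟩ := shape_eq hG (q := 7) (m := 648) (N := 28)
      (by rw [hn]; norm_num) (by norm_num) hd (by norm_num) P
    have he' : e = 2 := by
      have : e ≤ 6 := Nat.divisor_le he
      interval_cases e <;> revert he heN <;> decide
    subst he'
    obtain ⟨t, ht⟩ := exists_prime_orderOf_dvd_card'
      (G := centralizer ((P : Subgroup G) : Set G)) 2 (by rw [hC]; norm_num)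
    rw [← Subgroup.orderOf_coe] at ht
    set A := centralizer ({(t : G)} : Set G) with hAdef
    have ht1 : (t : G) ≠ 1 := fun h => by rw [h, orderOf_one] at ht; omega
    have hAtop : A ≠ ⊤ := centralizer_ne_top hG ht1
    have hPA : (P : Subgroup G) ≤ A := le_centralizer_singleton t.2
    obtain ⟨T₀⟩ := (inferInstance : Nonempty (Sylow 2 G))
    have h8 : 8 ∣ Nat.card A := eight_dvd_centralizer hG T₀
      ((card_sylow_eq (a := 3) (m := 567) (by rw [hn]; norm_num) (by norm_num) T₀).trans (by norm_num)) ht
    have htA : (t : G) ∈ A := mem_centralizer_singleton_iff.mpr rfl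
    -- the local subgroup
    set P' : Sylow 7 A := P.subtype hPA
    have hmul := card_normalizer_mul P'
    have hi28 : Nat.card ↥(normalizer ((P' : Subgroup A) : Set A)) ∣ 28 := by
      rw [show normalizer ((P' : Subgroup A) : Set A) =
        (normalizer ((P : Subgroup G) : Set G)).subgroupOf A from
          (subgroupOf_normalizer_eq hPA).symm, ← inf_subgroupOf_right,
        Nat.card_congr (subgroupOfEquivOfLe inf_le_right).toEquiv, ← hN]
      exact Subgroup.card_dvd_of_le inf_le_left
    have hi14 : 14 ∣ Nat.card ↥(normalizer ((P' : Subgroup A) : Set A)) := by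
      refine Nat.Coprime.mul_dvd_of_dvd_of_dvd (m := 2) (n := 7) (by norm_num) ?_ ?_
      · have hmem : (⟨(t : G), htA⟩ : A) ∈ normalizer ((P' : Subgroup A) : Set A) := by
          rw [show normalizer ((P' : Subgroup A) : Set A) =
            (normalizer ((P : Subgroup G) : Set G)).subgroupOf A from
              (subgroupOf_normalizer_eq hPA).symm, mem_subgroupOf]
          exact centralizer_le_normalizer _ t.2
        have h := Subgroup.orderOf_dvd_natCard _ hmem
        rwa [Subgroup.orderOf_mk, ht] at h
      · have h := Subgroup.card_dvd_of_le (le_normalizer (H := (P' : Subgroup A)))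
        rwa [Sylow.coe_subtype, Nat.card_congr (subgroupOfEquivOfLe hPA).toEquiv, hP] at h
    have hj : Nat.card (Sylow 7 A) % 7 = 1 := by
      have h := card_sylow_modEq_one 7 A
      unfold Nat.ModEq at h
      simpa using h
    have hdvd : Nat.card A ∣ 4536 := hn ▸ card_subgroup_dvd_card A
    have hne : Nat.card A ≠ 4536 := fun h => hAtop (eq_top_of_card_eq _ (h.trans hn.symm))
    have hbig : Classification.Sieve.big 4536 (4536 / Nat.card A) = true := by
      have h := Classification.Sieve.big_of_ne_top hG hAtop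
      have hidx : Nat.card G / Nat.card A = A.index := by
        rw [← A.card_mul_index, Nat.mul_div_cancel_left _ Nat.card_pos]
      rwa [← hidx, hn] at h
    have h504 : Nat.card A = 504 := by
      rw [← hmul] at hdvd hne hbig h8 ⊢
      generalize Nat.card ↥(normalizer ((P' : Subgroup A) : Set A)) = i at hi28 hi14 hdvd hne hbig h8 ⊢
      generalize Nat.card (Sylow 7 A) = j at hj hdvd hne hbig h8 ⊢
      have hi : i ∈ ([14, 28] : List ℕ) := by
        have := Nat.le_of_dvd (by norm_num) hi28
        obtain ⟨c, rfl⟩ := hi14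
        have hc0 : c ≠ 0 := fun h => by subst h; simp at hi28
        have hc : c = 1 ∨ c = 2 := by omega
        rcases hc with rfl | rfl <;> simp
      have hjle : j < 325 := by
        have h1 := Nat.le_of_dvd (by norm_num) hdvd
        have h2 : 14 ≤ i := by
          simp only [List.mem_cons, List.not_mem_nil, or_false] at hi
          omega
        have := Nat.mul_le_mul_right j h2
        omega
      exact hkey_4536 i hi j hjle (by
        simp [hj, hne, hbig, Nat.mod_eq_zero_of_dvd hdvd, Nat.mod_eq_zero_of_dvd h8])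
    have hidx : A.index = 9 := by
      have h := A.card_mul_index
      rw [h504, hn] at h
      omega
    -- nine points
    have hxt : Commute x (t : G) := mem_centralizer_iff.mp t.2 x hx
    have hbase : ∀ g ∈ A, g • ((1 : G) : G ⧸ A) = ((1 : G) : G ⧸ A) := fun g hg =>
      (mk_mem_fixedBy_iff A g 1).mpr (by rw [inv_one, one_mul, mul_one]; exact hg)
    have hxA : x • ((1 : G) : G ⧸ A) = ((1 : G) : G ⧸ A) := hbase x (hPA hx)
    have ht2 : (t : G) ^ 2 = 1 := by rw [← ht, pow_orderOf_eq_one]
    have hmx : 7 ≤ Nat.card {a : G ⧸ A // x • a ≠ a} :=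
      Nat.le_of_dvd (Classification.card_moved_pos A hAtop hx1)
        (Classification.dvd_card_moved (hxo ▸ pow_orderOf_eq_one x))
    have hsx := Classification.card_moved_add_fixed (α := G ⧸ A) x
    rw [← index_eq_card, hidx] at hsx
    have hno : ∀ a : G ⧸ A, (t : G) • a ≠ a → x • a ≠ a := by
      intro a hta hxa
      have hxta : x • ((t : G) • a) = (t : G) • a := by rw [← mul_smul, hxt.eq, mul_smul, hxa]
      have hne1 : a ≠ ((1 : G) : G ⧸ A) := fun h => hta (by rw [h]; exact hbase _ htA)
      have hne2 : (t : G) • a ≠ ((1 : G) : G ⧸ A) := fun h => hne1 (by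
        have h' : (t : G) • (t : G) • a = (t : G) • ((1 : G) : G ⧸ A) := by rw [h]
        rwa [← mul_smul, ← pow_two, ht2, one_smul, hbase _ htA] at h')
      have h3 : 3 ≤ Nat.card (fixedBy (G ⧸ A) x) := by
        rw [Nat.card_coe_set_eq]
        refine le_trans ?_ (Set.ncard_le_ncard (show ({a, (t : G) • a, ((1 : G) : G ⧸ A)} : Set (G ⧸ A)) ⊆
          fixedBy (G ⧸ A) x by
            intro b hb
            rcases hb with rfl | rfl | rfl
            · exact hxa
            · exact hxta
            · exact hxA))
        rw [Set.ncard_insert_of_notMem (by simp [Ne.symm hta, hne1]),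
          Set.ncard_insert_of_notMem (by simp [hne2]), Set.ncard_singleton]
      omega
    have h4 := Classification.four_dvd_card_moved hG A ht2
    have h7 := Classification.dvd_card_moved_of_commute hxt (hxo ▸ pow_orderOf_eq_one x) hno
    have hpos := Classification.card_moved_pos A hAtop ht1
    have hst := Classification.card_moved_add_fixed (α := G ⧸ A) (t : G)
    rw [← index_eq_card, hidx] at hst
    omega

end Cfsg.Agent.SO89
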