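import Cfsg.Agent.Classification.SimpleOrderSieve
import Cfsg.Agent.Lib.LinearGroup.Card
import Cfsg.Agent.S0999

set_option autoImplicit false

/-!
# A sieve for the orders of simple groups between 3640 and 6232
-/

namespace Cfsg.Agent.SO89

open Subgroup
open Cfsg.Agent.Classification.Sieve (big qPart killA killB)

/-- `d` is a possible number of Sylow `q`-subgroups in a simple group of order `n`. -/
def alive (n q d : ℕ) : Bool :=
  decide (d ≠ 1) && decide (d % q = 1) && decide (n / qPart n q % d = 0) && big n d &&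
    !(if qPart n q = q then killA n q d else killB n q d)

/-- No number of Sylow `q`-subgroups is possible. -/
def dead (n q : ℕ) : Bool :=
  (List.range (n / qPart n q / q + 1)).all fun j => !alive n q (1 + q * j)

/-- Trial division primality, valid below `6400`. -/
def isP (r : ℕ) : Bool :=
  decide (2 ≤ r) && decide (r < 6400) &&
    (List.range 80).all fun m => decide (m < 2) || decide (r ≤ m) || decide (r % m ≠ 0)

/-- Some prime divisors of `n`. -/
def cand (n : ℕ) : List ℕ :=
  (([2, 3, 5, 7, 11, 13, 17, 19, 23, 29, 31, 37, 41, 43, 47, 53, 59, 61, 67, 71, 73, 79] : List ℕ).filter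
    fun q => decide (n % q = 0)) ++
  (((List.range 79).filter fun k => decide (n % (k + 1) = 0) &&
    decide (80 < n / (k + 1)) && isP (n / (k + 1))).map fun k => n / (k + 1))

/-- The orders left. -/
def left : List ℕ :=
  [3696, 3744, 3780, 3960, 4032, 4080, 4200, 4212, 4320, 4400, 4536, 4620, 4680, 4800, 4928, 5040,
   5148, 5376, 5400, 5460, 5600, 5616, 5760, 5880, 5940, 6048, 6072]

/-- A large prime forces a linear group, whose order is neither of the two below. -/
def large (n q : ℕ) : Bool :=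
  decide (n < q ^ 3) && decide (2 * n ≠ q * (q ^ 2 - 1)) &&
    decide (n ≠ (q - 1) * ((q - 1) ^ 2 - 1))

/-- The sieve. -/
def sieve (n : ℕ) : Bool :=
  left.contains n ||
    ((cand n).any fun q => decide (n ∣ q ^ 13) || ((cand n).any fun r => decide ((q * r) ^ 13 % n = 0))) ||
    ((cand n).any fun q => large n q) ||
    ((cand n).any fun q => dead n q)

theorem sieve_eq_true : ∀ k < 2592, sieve (3641 + k) = true := by
  decide +kernel

theorem isP_prime {r : ℕ} (h : isP r = true) : r.Prime := by
  simp only [isP, Bool.and_eq_true, decide_eq_true_eq, List.all_eq_true, List.mem_range,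
    Bool.or_eq_true] at h
  obtain ⟨⟨h2, hlt⟩, hall⟩ := h
  refine Nat.prime_def_le_sqrt.mpr ⟨h2, fun m hm hms hd => ?_⟩
  have h1 : Nat.sqrt r < 80 := Nat.sqrt_lt.mpr (by omega)
  have h3 := Nat.sqrt_lt_self (show 1 < r by omega)
  rcases hall m (by omega) with (h4 | h4) | h4
  · omega
  · omega
  · exact h4 (Nat.mod_eq_zero_of_dvd hd)

theorem cand_spec {n q : ℕ} (h : q ∈ cand n) : q.Prime ∧ q ∣ n := by
  simp only [cand, List.mem_append, List.mem_filter, List.mem_map, Bool.and_eq_true,
    decide_eq_true_eq] at h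
  rcases h with ⟨hq, hd⟩ | ⟨k, ⟨-, ⟨hd, -⟩, hp⟩, rfl⟩
  · refine ⟨?_, Nat.dvd_of_mod_eq_zero hd⟩
    simp only [List.mem_cons, List.not_mem_nil, or_false] at hq
    rcases hq with rfl | rfl | rfl | rfl | rfl | rfl | rfl | rfl | rfl | rfl | rfl | rfl | rfl |
      rfl | rfl | rfl | rfl | rfl | rfl | rfl | rfl | rfl <;> norm_num
  · exact ⟨isP_prime hp, Nat.div_dvd_of_dvd (Nat.dvd_of_mod_eq_zero hd)⟩

variable {G : Type*} [Group G] [Finite G] [IsSimpleGroup G]

/-- The number of Sylow `q`-subgroups is alive. -/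
theorem card_sylow_alive (hG : ¬ IsMulCommutative G) {q a m₀ : ℕ} [hq : Fact q.Prime]
    (hn : Nat.card G = q ^ a * m₀) (hm₀ : ¬ q ∣ m₀) (ha0 : a ≠ 0) (ha : a ≤ 11) :
    alive (Nat.card G) q (Nat.card (Sylow q G)) = true := by
  have hqd : q ∣ Nat.card G := hn ▸ dvd_mul_of_dvd_left (dvd_pow_self q ha0) m₀
  have hqp : qPart (Nat.card G) q = q ^ a := by
    rw [qPart, hn, show q ^ 11 = q ^ a * q ^ (11 - a) by rw [← pow_add]; congr 1; omega,
      Nat.gcd_mul_left, ((hq.out.coprime_iff_not_dvd.mpr hm₀).pow_left _).symm.gcd_eq_one, mul_one]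
  obtain ⟨hdm, hd1⟩ := SmallGroups.card_sylow_mem hn hm₀
  obtain ⟨P⟩ := (inferInstance : Nonempty (Sylow q G))
  have hne := SmallGroups.card_sylow_ne_one hG hqd
  simp only [alive, Bool.and_eq_true, decide_eq_true_eq, Bool.not_eq_true']
  refine ⟨⟨⟨⟨hne, hd1⟩, ?_⟩, ?_⟩, ?_⟩
  · rw [hqp, hn, Nat.mul_div_cancel_left _ (pow_pos hq.out.pos a)]
    exact Nat.mod_eq_zero_of_dvd hdm
  · rw [P.card_eq_index_normalizer]
    refine Classification.Sieve.big_of_ne_top hG fun ht => hne ?_
    rw [P.card_eq_index_normalizer, ht, index_top]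
  · split_ifs with hA
    · rw [hqp] at hA
      have hP := SmallGroups.card_sylow_eq hn hm₀ P
      rw [hA] at hP
      exact Classification.Sieve.not_killA hG hqd P hP
    · have ha2 : 2 ≤ a := by
        by_contra ha2
        rcases a with _ | _ | a
        · exact ha0 rfl
        · exact hA (by rw [hqp, pow_one])
        · omega
      exact Classification.Sieve.not_killB hG ha2 hqp hn hm₀

/-- A non-abelian simple group with order in the range has one of the orders left. -/
theorem card_mem_left (hG : ¬ IsMulCommutative G) (h1 : 3640 < Nat.card G)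
    (h2 : Nat.card G ≤ 6232) : Nat.card G ∈ left := by
  have hs := sieve_eq_true (Nat.card G - 3641) (by omega)
  rw [show 3641 + (Nat.card G - 3641) = Nat.card G by omega] at hs
  simp only [sieve, Bool.or_eq_true, List.any_eq_true, decide_eq_true_eq,
    List.contains_iff_mem] at hs
  have htwo : ∀ {q r : ℕ}, q.Prime → r.Prime → Nat.card G ∣ (q * r) ^ 13 → False := by
    intro q r hq hr hd
    rw [mul_pow] at hd
    obtain ⟨c, d, hc, hd, hcd⟩ := dvd_mul.mp hd
    obtain ⟨a, -, rfl⟩ := (Nat.dvd_prime_pow hq).mp hc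
    obtain ⟨b, -, rfl⟩ := (Nat.dvd_prime_pow hr).mp hd
    exact hG (isMulCommutative_iff.mpr
      (CharClifford.isSolvable_of_two_prime_divisors_simple hq hr hcd))
  rcases hs with ((hs | ⟨q, hq, h⟩) | ⟨q, hq, h⟩) | ⟨q, hq, h⟩
  · exact hs
  · rcases h with h | ⟨r, hr, h⟩
    · exact (htwo (cand_spec hq).1 (cand_spec hq).1
        (h.trans (pow_dvd_pow_of_dvd (dvd_mul_right q q) 13))).elim
    · exact (htwo (cand_spec hq).1 (cand_spec hr).1 (Nat.dvd_of_mod_eq_zero h)).elim
  · exfalso
    simp only [large, Bool.and_eq_true, decide_eq_true_eq] at h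
    obtain ⟨⟨hlt, hne1⟩, hne2⟩ := h
    obtain ⟨hqp, hqd⟩ := cand_spec hq
    have hcyc : ¬ IsCyclic G := fun h => hG (by exact IsCyclic.isMulCommutative)
    rcases S0999.result hcyc q hqp hqd hlt with
      ⟨F, _, _, hF, hq3, ⟨e⟩⟩ | ⟨m, F, _, _, hF, hqm, hq3, ⟨e⟩⟩
    · apply hne1
      have h := LinearGroup.gcd_mul_card_PSL_two (F := F)
      rw [Nat.card_eq_fintype_card (α := F), hF, ← Nat.card_congr e.toEquiv] at h
      have hodd : 2 ∣ q - 1 := by
        have := hqp.odd_of_ne_two (by omega)
        obtain ⟨k, hk⟩ := this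
        omega
      rw [Nat.gcd_eq_left hodd] at h
      simpa using h
    · apply hne2
      have h := LinearGroup.gcd_mul_card_PSL_two (F := F)
      rw [Nat.card_eq_fintype_card (α := F), hF, ← Nat.card_congr e.toEquiv] at h
      have hq1 : q - 1 = 2 ^ m := by omega
      have hg : Nat.gcd 2 (2 ^ m - 1) = 1 := by
        rcases m with _ | m
        · omega
        · rw [Nat.coprime_two_left.mpr]
          exact Nat.Even.sub_odd (Nat.one_le_two_pow) (Nat.even_pow.mpr ⟨even_two, by omega⟩) odd_one
      rw [hg, one_mul] at h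
      rw [hq1]
      simpa using h
  · exfalso
    obtain ⟨hqp, hqd⟩ := cand_spec hq
    have : Fact q.Prime := ⟨hqp⟩
    obtain ⟨a, m₀, hm₀, hn⟩ :=
      Nat.exists_eq_pow_mul_and_not_dvd (Nat.card_pos (α := G)).ne' q hqp.ne_one
    have ha0 : a ≠ 0 := by
      rintro rfl
      exact hm₀ (by rwa [hn, pow_zero, one_mul] at hqd)
    have ha : a ≤ 11 := by
      by_contra ha
      have h3 : q ^ a ≤ Nat.card G := Nat.le_of_dvd Nat.card_pos ⟨m₀, hn⟩
      have h4 : q ^ 12 ≤ q ^ a := Nat.pow_le_pow_right hqp.pos (by omega)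
      have h5 : 2 ^ 12 ≤ q ^ 12 := Nat.pow_le_pow_left hqp.two_le 12
      rcases hqp.eq_two_or_odd with rfl | hodd
      · have hm1 : m₀ = 1 := by
          by_contra hm1
          have hm3 : 3 ≤ m₀ := by
            rcases Nat.eq_zero_or_pos m₀ with rfl | h0
            · exact absurd (dvd_zero 2) hm₀
            · rcases Nat.lt_or_ge m₀ 3 with h' | h'
              · interval_cases m₀
                · exact absurd rfl hm1
                · exact absurd (dvd_refl 2) hm₀
              · exact h'
          have := Nat.mul_le_mul h4 hm3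
          rw [← hn] at this
          omega
        exact hG (SmallGroups.comm_of_isPGroup (p := 2) (IsPGroup.of_card (n := a) (by rw [hn, hm1, mul_one])))
      · have h6 : 3 ^ 12 ≤ q ^ 12 := Nat.pow_le_pow_left (by have := hqp.two_le; omega) 12
        omega
    have hal := card_sylow_alive hG hn hm₀ ha0 ha
    simp only [dead, List.all_eq_true, List.mem_range, Bool.not_eq_true'] at h
    obtain ⟨hdm, hd1⟩ := SmallGroups.card_sylow_mem hn hm₀
    have hqpart : qPart (Nat.card G) q = q ^ a := by
      rw [qPart, hn, show q ^ 11 = q ^ a * q ^ (11 - a) by rw [← pow_add]; congr 1; omega,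
        Nat.gcd_mul_left, ((hqp.coprime_iff_not_dvd.mpr hm₀).pow_left _).symm.gcd_eq_one, mul_one]
    have hle := Nat.le_of_dvd (Nat.pos_of_ne_zero fun h => hm₀ (by rw [h]; exact dvd_zero q)) hdm
    have hdiv : Nat.card G / qPart (Nat.card G) q = m₀ := by
      rw [hqpart, hn]; exact Nat.mul_div_cancel_left _ (pow_pos hqp.pos a)
    have hj := h (Nat.card (Sylow q G) / q)
      (by rw [hdiv]; exact Nat.lt_succ_of_le (Nat.div_le_div_right hle))
    rw [show 1 + q * (Nat.card (Sylow q G) / q) = Nat.card (Sylow q G) by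
      have := Nat.div_add_mod (Nat.card (Sylow q G)) q; omega, hal] at hj
    exact Bool.noConfusion hj

end Cfsg.Agent.SO89
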