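import Cfsg.Agent.SO89.Inter
import Cfsg.Agent.SO89.Sieve

set_option autoImplicit false

/-!
# The possible normalisers of cuts
-/

namespace Cfsg.Agent.SO89

open Subgroup SmallGroups
open Cfsg.Agent.Classification.Sieve (big)

variable {G : Type*} [Group G] [Finite G] [IsSimpleGroup G]

theorem sylow_mem (hG : ¬ IsMulCommutative G) {q a m : ℕ} [Fact q.Prime]
    (hn : Nat.card G = q ^ a * m) (hm : ¬ q ∣ m) (ha0 : a ≠ 0) (ha : a ≤ 11) (L : List ℕ)
    (h : ∀ d < m + 1, alive (q ^ a * m) q d = true → d ∈ L) : Nat.card (Sylow q G) ∈ L := by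
  have hm0 : 0 < m := Nat.pos_of_ne_zero fun h => hm (h ▸ dvd_zero q)
  refine h _ (Nat.lt_succ_of_le (Nat.le_of_dvd hm0 (card_sylow_mem hn hm).1)) ?_
  rw [← hn]
  exact card_sylow_alive hG hn hm ha0 ha

/-- `(i, j) = (|N_H(Q)|, n_q(H))` for `H` the normaliser of a cut, as far as arithmetic goes. -/
def cutOK (n q i j : ℕ) : Bool :=
  decide (i % q ^ 2 = 0) && decide (j % q = 1) && decide (j ≠ 1) && decide (n % (i * j) = 0) &&
    decide (i * j ≠ n) && big n (n / (i * j))

theorem cut_data (hG : ¬ IsMulCommutative G) {q : ℕ} [hq : Fact q.Prime]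
    (hQ : ∀ S : Sylow q G, Nat.card ↥(S : Subgroup G) = q ^ 2) (Q : Sylow q G) (D : Cuts Q) :
    ∃ i j, cutOK (Nat.card G) q i j = true ∧
      Nat.card (Sylow q ↥(normalizer ((D.1 : Subgroup G) : Set G))) = j ∧
      Nat.card ↥(normalizer ((D.1 : Subgroup G) : Set G)) = i * j ∧
      i * (normalizer ((D.1 : Subgroup G) : Set G)).relIndex (normalizer ((Q : Subgroup G) : Set G)) =
        Nat.card ↥(normalizer ((Q : Subgroup G) : Set G)) := by
  classical
  have hdc : Nat.card D.1 = q := by obtain ⟨R, hR⟩ := D.2; rw [← hR]; exact R.2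
  have hDQ : D.1 ≤ (Q : Subgroup G) := by obtain ⟨R, hR⟩ := D.2; rw [← hR]; exact inf_le_left
  have hf := card_fiber hQ Q D
  set H := normalizer ((D.1 : Subgroup G) : Set G)
  set N := normalizer ((Q : Subgroup G) : Set G)
  have hQH : (Q : Subgroup G) ≤ H :=
    (sylow_le_centralizer_of_le hQ Q hDQ).trans (centralizer_le_normalizer _)
  have hfpos : 0 < Nat.card {R : Meet Q // cut Q R = D} := by
    obtain ⟨R, hR⟩ := D.2
    exact Nat.card_pos_iff.mpr ⟨⟨⟨R, Subtype.ext hR⟩⟩, inferInstance⟩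
  set Q' : Sylow q H := Q.subtype hQH
  set i := Nat.card ↥(normalizer ((Q' : Subgroup H) : Set H))
  have hmul : i * Nat.card (Sylow q H) = Nat.card H := card_normalizer_mul Q'
  have hrel : i * H.relIndex N = Nat.card N := by
    have he : normalizer ((Q' : Subgroup H) : Set H) = N.subgroupOf H :=
      (subgroupOf_normalizer_eq hQH).symm
    have h1 : i = Nat.card ↥(H.subgroupOf N) := by
      show Nat.card ↥(normalizer ((Q' : Subgroup H) : Set H)) = _
      rw [he, ← inf_subgroupOf_right N H, ← inf_subgroupOf_right H N,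
        Nat.card_congr (subgroupOfEquivOfLe (inf_le_right : N ⊓ H ≤ H)).toEquiv,
        Nat.card_congr (subgroupOfEquivOfLe (inf_le_right : H ⊓ N ≤ N)).toEquiv, inf_comm]
    rw [h1]
    exact card_mul_index _
  refine ⟨i, Nat.card (Sylow q H), ?_, rfl, hmul.symm, hrel⟩
  have hHtop : H ≠ ⊤ := by
    intro h
    rcases (normalizer_eq_top_iff.mp h).eq_bot_or_eq_top with h' | h'
    · rw [h', card_bot] at hdc
      exact hq.out.ne_one hdc.symm
    · rw [h', card_top] at hdc
      exact hG (prime_card_isMulCommutative hdc)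
  have hHdvd : Nat.card H ∣ Nat.card G := card_subgroup_dvd_card H
  have hlt : Nat.card H ≠ Nat.card G := fun h => hHtop (eq_top_of_card_eq _ h)
  have hidx : Nat.card G / Nat.card H = H.index := by
    rw [← H.card_mul_index, Nat.mul_div_cancel_left _ Nat.card_pos]
  have hq2 : q ^ 2 ∣ i := by
    rw [← hQ Q, ← Nat.card_congr (subgroupOfEquivOfLe hQH).toEquiv]
    exact Subgroup.card_dvd_of_le le_normalizer
  simp only [cutOK, Bool.and_eq_true, decide_eq_true_eq, hmul, hidx]
  refine ⟨⟨⟨⟨⟨Nat.mod_eq_zero_of_dvd hq2, ?_⟩, ?_⟩, Nat.mod_eq_zero_of_dvd hHdvd⟩, hlt⟩,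
    Classification.Sieve.big_of_ne_top hG hHtop⟩
  · have h := card_sylow_modEq_one q H
    unfold Nat.ModEq at h
    rwa [Nat.mod_eq_of_lt hq.out.one_lt] at h
  · omega
where
  prime_card_isMulCommutative {n : ℕ} [Fact n.Prime] (h : Nat.card G = n) : IsMulCommutative G :=
    comm_of_isPGroup (p := n) (IsPGroup.of_card (n := 1) (h.trans (pow_one n).symm))

omit [IsSimpleGroup G] in
/-- Counting the Sylow subgroups through the cuts. -/
theorem card_sylow_eq_sum {q : ℕ} [Fact q.Prime]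
    (hQ : ∀ S : Sylow q G, Nat.card ↥(S : Subgroup G) = q ^ 2) (Q : Sylow q G) :
    ∃ t, ∀ [Fintype (Cuts Q)], Nat.card (Sylow q G) =
      1 + (∑ D : Cuts Q, Nat.card {R : Meet Q // cut Q R = D}) + q ^ 2 * t := by
  classical
  obtain ⟨t, ht⟩ := sq_dvd_card_sub_meet hQ Q
  refine ⟨t, fun {_} => ?_⟩
  rw [ht, ← Nat.card_congr (Equiv.sigmaFiberEquiv (cut Q)), Nat.card_sigma]

end Cfsg.Agent.SO89
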