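import Cfsg.Agent.SO89.Tools

set_option autoImplicit false

/-!
# Sylow subgroups of order `q ^ 2` and their intersections
-/

namespace Cfsg.Agent.SO89

open Subgroup MulAction SmallGroups
open scoped Pointwise

variable {G : Type*} [Group G] [Finite G]

/-- A group of order twice an odd number has all its odd Sylow subgroups in a subgroup of index two;
if that leaves no room, there is a single one. -/
theorem card_sylow_eq_one_of_two_mul {o q a m : ℕ} [hq : Fact q.Prime] (hq2 : q ≠ 2) (H : Subgroup G)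
    (hH : Nat.card H = 2 * o) (ho : ¬ 2 ∣ o) (hom : o = q ^ a * m) (hm : ¬ q ∣ m)
    (hone : ∀ d ∈ m.divisors, d % q = 1 → d = 1) : Nat.card (Sylow q H) = 1 := by
  have : Fact (Nat.Prime 2) := ⟨Nat.prime_two⟩
  obtain ⟨T⟩ := (inferInstance : Nonempty (Sylow 2 H))
  have hT : Nat.card ↥(T : Subgroup H) = 2 :=
    card_sylow_eq (a := 1) (by rw [pow_one]; exact hH) ho T |>.trans (pow_one 2)
  have hmin : (Nat.card H).minFac = 2 := (Nat.minFac_eq_two_iff _).mpr (by rw [hH]; exact dvd_mul_right _ _)
  have hcyc : IsCyclic ↥(T : Subgroup H) := isCyclic_of_prime_card hT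
  have hle := hcyc.normalizer_le_centralizer hmin
  set φ := MonoidHom.transferSylow T hle
  have hK := MonoidHom.ker_transferSylow_isComplement' T hle
  have hKc : Nat.card φ.ker = o := by
    have h := hK.card_mul_card
    rw [hT, hH, mul_comm] at h
    exact Nat.eq_of_mul_eq_mul_left two_pos h
  have hSK : ∀ S : Sylow q H, (S : Subgroup H) ≤ φ.ker := by
    intro S x hx
    rw [MonoidHom.mem_ker, ← orderOf_eq_one_iff]
    have h1 : orderOf (φ x) ∣ orderOf x := orderOf_map_dvd φ x
    have h2 : orderOf (φ x) ∣ 2 := by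
      have h := orderOf_dvd_natCard (φ x)
      rwa [hT] at h
    obtain ⟨k, hk⟩ := S.2.exists_card_eq
    have h3 : orderOf x ∣ q ^ k := hk ▸ Subgroup.orderOf_dvd_natCard _ hx
    exact Nat.eq_one_of_dvd_coprimes
      (((Nat.coprime_primes hq.out Nat.prime_two).mpr hq2).pow_left k) (h1.trans h3) h2
  have hn : Nat.card φ.ker = q ^ a * m := hKc.trans hom
  have hmem := card_sylow_mem hn hm
  have hone' : Nat.card (Sylow q φ.ker) = 1 :=
    hone _ (Nat.mem_divisors.mpr ⟨hmem.1, fun h => hm (h ▸ dvd_zero q)⟩) hmem.2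
  have hinj : Function.Injective (fun S : Sylow q H => S.subtype (hSK S)) :=
    fun S S' h => Sylow.subtype_injective h
  have h1 := Nat.card_le_card_of_injective _ hinj
  have h2 : 0 < Nat.card (Sylow q H) := Nat.card_pos
  omega

/-- An element of prime order `s` centralises a normalised group of order `r ^ 2` when no smaller
fixed subgroup has the right congruence. -/
theorem centralizes_of_order {r s : ℕ} [hr : Fact r.Prime] [Fact s.Prime] (R : Subgroup G)
    (hR : Nat.card R = r ^ 2) {x : G} (hx : orderOf x = s) (hxR : x ∈ normalizer (R : Set G))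
    (h1 : r ^ 2 % s ≠ 1 % s) (h2 : r ^ 2 % s ≠ r % s) : x ∈ centralizer (R : Set G) := by
  have hmem : ∀ a : G, a ∈ R ↔ x * a * x⁻¹ ∈ R := mem_normalizer_iff.mp hxR
  let σ : Equiv.Perm R := Equiv.Perm.subtypePerm (MulAut.conj x).toEquiv fun a => (hmem a).symm
  have hpow : ∀ (n : ℕ) (a : R), ((σ ^ n) a : G) = x ^ n * a * (x ^ n)⁻¹ := by
    intro n
    induction n with
    | zero => intro a; simp
    | succ n ih =>
      intro a
      rw [pow_succ', Equiv.Perm.mul_apply]
      show x * ((σ ^ n) a : G) * x⁻¹ = _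
      rw [ih, pow_succ', mul_inv_rev]
      group
  have hσ : σ ^ s = 1 := by
    ext a
    rw [hpow, Equiv.Perm.one_apply, ← hx, pow_orderOf_eq_one, one_mul, inv_one, mul_one]
  have hmod := Classification.card_modEq_fixed hσ
  let K : Subgroup G := R ⊓ centralizer ({x} : Set G)
  have hfix : Nat.card {a : R // σ a = a} = Nat.card K := by
    refine Nat.card_congr
      { toFun := fun a => ⟨a.1.1, a.1.2, mem_centralizer_singleton_iff.mpr
          (mul_inv_eq_iff_eq_mul.mp (show x * a.1.1 * x⁻¹ = a.1.1 from congrArg Subtype.val a.2)).symm⟩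
        invFun := fun a => ⟨⟨a.1, a.2.1⟩, Subtype.ext (show x * a.1 * x⁻¹ = a.1 from
          mul_inv_eq_iff_eq_mul.mpr (mem_centralizer_singleton_iff.mp a.2.2).symm)⟩
        left_inv := fun _ => rfl
        right_inv := fun _ => rfl }
  rw [hfix, hR] at hmod
  obtain ⟨i, hi, hK⟩ := (Nat.dvd_prime_pow hr.out).mp (hR ▸ Subgroup.card_dvd_of_le inf_le_left :
    Nat.card K ∣ r ^ 2)
  rw [hK] at hmod
  interval_cases i
  · exact absurd hmod (by simpa [Nat.ModEq] using h1)
  · exact absurd hmod (by simpa [Nat.ModEq] using h2)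
  · have hKR : K = R := eq_of_le_of_card_ge inf_le_left (by rw [hK, hR])
    rw [mem_centralizer_iff]
    intro a ha
    rw [SetLike.mem_coe, ← hKR] at ha
    exact mem_centralizer_singleton_iff.mp ha.2

variable {q : ℕ} [hq : Fact q.Prime]

/-- The Sylow subgroups meeting `Q` in a subgroup of order `q`. -/
abbrev Meet (Q : Sylow q G) : Type _ :=
  {R : Sylow q G // Nat.card ↥((Q : Subgroup G) ⊓ (R : Subgroup G)) = q}

/-- The intersections of order `q` with other Sylow subgroups. -/
abbrev Cuts (Q : Sylow q G) : Type _ :=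
  {D : Subgroup G // ∃ R : Meet Q, (Q : Subgroup G) ⊓ (R.1 : Subgroup G) = D}

/-- The cut of `R`. -/
def cut (Q : Sylow q G) (R : Meet Q) : Cuts Q := ⟨_, R, rfl⟩

section Square

variable (hQ : ∀ S : Sylow q G, Nat.card ↥(S : Subgroup G) = q ^ 2) (Q : Sylow q G)
include hQ

omit [Finite G] in
theorem comm_of_mem_sylow (S : Sylow q G) {a b : G} (ha : a ∈ (S : Subgroup G))
    (hb : b ∈ (S : Subgroup G)) : Commute a b :=
  congrArg Subtype.val ((IsPGroup.isMulCommutative_of_card_eq_prime_sq (hQ S)).is_comm.comm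
    (⟨a, ha⟩ : ↥(S : Subgroup G)) ⟨b, hb⟩)

omit [Finite G] in
theorem sylow_le_centralizer_of_le [Finite G] (S : Sylow q G) {D : Subgroup G}
    (hD : D ≤ (S : Subgroup G)) : (S : Subgroup G) ≤ centralizer (D : Set G) := by
  intro a ha
  rw [mem_centralizer_iff]
  exact fun b hb => (comm_of_mem_sylow hQ S (hD hb) ha).eq

theorem sq_dvd_card_sub_meet :
    ∃ t, Nat.card (Sylow q G) = 1 + Nat.card (Meet Q) + q ^ 2 * t := by
  classical
  have := Fintype.ofFinite (Sylow q G)
  let T := {R : Sylow q G // R ≠ Q ∧ ¬ Nat.card ↥((Q : Subgroup G) ⊓ (R : Subgroup G)) = q}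
  have hinv : ∀ (u : ↥(Q : Subgroup G)) (R : Sylow q G),
      (Q : Subgroup G) ⊓ ((u : G) • R : Sylow q G) =
        ((Q : Subgroup G) ⊓ (R : Subgroup G)).map (MulAut.conj (u : G)).toMonoidHom := by
    intro u R
    rw [map_inf _ _ _ (MulAut.conj (u : G)).injective]
    congr 1
    · have h : (u : G) • Q = Q := Sylow.smul_eq_iff_mem_normalizer.mpr (le_normalizer u.2)
      conv_lhs => rw [← h, Sylow.coe_subgroup_smul]
      rfl
  have hsmul : ∀ (u : ↥(Q : Subgroup G)) (R : Sylow q G),
      (R ≠ Q ∧ ¬ Nat.card ↥((Q : Subgroup G) ⊓ (R : Subgroup G)) = q) →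
      ((u : G) • R ≠ Q ∧
        ¬ Nat.card ↥((Q : Subgroup G) ⊓ (((u : G) • R : Sylow q G) : Subgroup G)) = q) := by
    intro u R h
    have h' : (u : G) • Q = Q := Sylow.smul_eq_iff_mem_normalizer.mpr (le_normalizer u.2)
    refine ⟨fun hh => h.1 (smul_left_cancel (u : G) (hh.trans h'.symm)), ?_⟩
    rw [hinv, card_map_of_injective (MulAut.conj (u : G)).injective]
    exact h.2
  let _ : MulAction ↥(Q : Subgroup G) T :=
    { smul := fun u R => ⟨(u : G) • R.1, hsmul u R.1 R.2⟩
      one_smul := fun R => Subtype.ext (one_smul _ R.1)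
      mul_smul := fun u v R => Subtype.ext (mul_smul (u : G) v R.1) }
  have hfree : ∀ (R : T) (u : ↥(Q : Subgroup G)), u • R = R → u = 1 := by
    rintro ⟨R, hRQ, hR⟩ u hu
    have h1 : (u : G) • R = R := congrArg Subtype.val hu
    have h2 : u ∈ stabilizer ↥(Q : Subgroup G) R := h1
    rw [stabilizer_sylow, mem_subgroupOf] at h2
    have h3 : (u : G) ∈ (Q : Subgroup G) ⊓ (R : Subgroup G) := ⟨u.2, h2⟩
    obtain ⟨i, hi, hc⟩ := (Nat.dvd_prime_pow hq.out).mp
      (hQ Q ▸ Subgroup.card_dvd_of_le (inf_le_left : (Q : Subgroup G) ⊓ (R : Subgroup G) ≤ Q))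
    interval_cases i
    · rw [pow_zero] at hc
      rw [eq_bot_of_card_eq _ hc, mem_bot] at h3
      exact Subtype.ext h3
    · exact absurd (hc.trans (pow_one q)) hR
    · exfalso
      have h4 : (Q : Subgroup G) ≤ R := by
        rw [← inf_eq_left]
        exact eq_of_le_of_card_ge inf_le_left (by rw [hc, hQ Q])
      exact hRQ (Sylow.ext (eq_of_le_of_card_ge h4 (by rw [hQ R, hQ Q]))).symm
  have hfree' : q ^ 2 ∣ Nat.card T := by
    rw [← hQ Q, Nat.card_congr (selfEquivOrbitsQuotientProd fun R =>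
      (eq_bot_iff_forall _).mpr fun u hu => hfree R u hu), Nat.card_prod]
    exact dvd_mul_left _ _
  obtain ⟨t, ht⟩ := hfree'
  refine ⟨t, ?_⟩
  rw [← ht, show Nat.card T = (Finset.univ.filter fun R : Sylow q G =>
      R ≠ Q ∧ ¬ Nat.card ↥((Q : Subgroup G) ⊓ (R : Subgroup G)) = q).card from by
    rw [Nat.card_eq_fintype_card]; exact Fintype.card_subtype _,
    show Nat.card (Meet Q) = (Finset.univ.filter fun R : Sylow q G =>
      Nat.card ↥((Q : Subgroup G) ⊓ (R : Subgroup G)) = q).card from by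
    rw [Nat.card_eq_fintype_card]; exact Fintype.card_subtype _,
    Nat.card_eq_fintype_card, ← Finset.card_univ]
  have hQQ : ¬ Nat.card ↥((Q : Subgroup G) ⊓ (Q : Subgroup G)) = q := by
    rw [inf_idem, hQ Q]
    have := hq.out.two_le
    nlinarith
  rw [← Finset.card_filter_add_card_filter_not
    (s := (Finset.univ : Finset (Sylow q G))) (fun R : Sylow q G => R = Q)]
  rw [show (Finset.univ.filter fun R : Sylow q G => R = Q).card = 1 from
    Finset.card_eq_one.mpr ⟨Q, by ext; simp⟩, add_assoc]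
  congr 1
  rw [← Finset.card_filter_add_card_filter_not
    (s := Finset.univ.filter fun R : Sylow q G => ¬ R = Q)
    (fun R : Sylow q G => Nat.card ↥((Q : Subgroup G) ⊓ (R : Subgroup G)) = q),
    Finset.filter_filter, Finset.filter_filter]
  congr 1
  exact congrArg Finset.card (Finset.filter_congr fun R _ =>
    ⟨fun h => h.2, fun h => ⟨fun hh => hQQ (hh ▸ h), h⟩⟩)

/-- The Sylow subgroups of the normaliser of a cut, other than `Q`, are those with that cut. -/
theorem card_fiber (D : Cuts Q) :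
    Nat.card {R : Meet Q // cut Q R = D} + 1 =
      Nat.card (Sylow q ↥(normalizer ((D.1 : Subgroup G) : Set G))) := by
  classical
  obtain ⟨D, R₀, hD⟩ := D
  set H := normalizer (D : Set G)
  have hDc : Nat.card D = q := by rw [← hD]; exact R₀.2
  have hDQ : D ≤ (Q : Subgroup G) := hD ▸ inf_le_left
  have hleH : ∀ S : Sylow q G, D ≤ (S : Subgroup G) → (S : Subgroup G) ≤ H := fun S hS =>
    (sylow_le_centralizer_of_le hQ S hS).trans (centralizer_le_normalizer _)
  let Q' : Sylow q H := Q.subtype (hleH Q hDQ)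
  have hRH : ∀ R : {R : Meet Q // cut Q R = ⟨D, R₀, hD⟩}, (R.1.1 : Subgroup G) ≤ H := fun R => by
    have h : (Q : Subgroup G) ⊓ (R.1.1 : Subgroup G) = D := congrArg Subtype.val R.2
    exact hleH R.1.1 (h.symm.le.trans inf_le_right)
  let f : {R : Meet Q // cut Q R = ⟨D, R₀, hD⟩} → {S : Sylow q H // S ≠ Q'} := fun R =>
    ⟨R.1.1.subtype (hRH R),
      fun h => by
        have h1 : R.1.1 = Q := Sylow.subtype_injective h
        have h2 := R.1.2
        rw [h1, inf_idem, hQ Q] at h2
        have := hq.out.two_le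
        nlinarith⟩
  have hf : Function.Bijective f := by
    refine ⟨fun R R' h => Subtype.ext (Subtype.ext (Sylow.subtype_injective (hP := hRH R) (hQ := hRH R')
      (congrArg Subtype.val h))), fun ⟨S, hS⟩ => ?_⟩
    have hSp : IsPGroup q ((S : Subgroup H).map H.subtype) := S.2.map _
    obtain ⟨S₁, hS₁⟩ := hSp.exists_le_sylow
    have hcard : Nat.card ↥((S : Subgroup H).map H.subtype) = q ^ 2 := by
      rw [card_map_of_injective (subtype_injective H), ← Nat.card_congr (Q'.equiv S).toEquiv,
        show Nat.card ↥(Q' : Subgroup H) = q ^ 2 from by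
          rw [← hQ Q]
          exact Nat.card_congr (subgroupOfEquivOfLe (hleH Q hDQ)).toEquiv]
    have heq : (S : Subgroup H).map H.subtype = (S₁ : Subgroup G) :=
      eq_of_le_of_card_ge hS₁ (by rw [hcard, hQ S₁])
    have hS₁H : (S₁ : Subgroup G) ≤ H := heq ▸ map_subtype_le _
    have hsub : S₁.subtype hS₁H = S := by
      refine Sylow.ext ?_
      rw [Sylow.coe_subtype, ← heq]
      exact comap_map_eq_self_of_injective (subtype_injective H) _
    have hDS : D ≤ (S₁ : Subgroup G) := by
      have hDn : (D.subgroupOf H).Normal :=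
        (normal_subgroupOf_iff_le_normalizer le_normalizer).mpr le_rfl
      have hDp : IsPGroup q (D.subgroupOf H) := by
        refine IsPGroup.of_card (n := 1) ?_
        rw [pow_one, Nat.card_congr (subgroupOfEquivOfLe (le_normalizer (H := D))).toEquiv, hDc]
      have h := hDp.le_sylow_of_normal S
      intro a ha
      rw [← heq]
      exact ⟨⟨a, le_normalizer ha⟩, h (show (⟨a, _⟩ : H) ∈ D.subgroupOf H from ha), rfl⟩
    have hneQ : S₁ ≠ Q := fun h => hS (hsub ▸ Sylow.ext (by
      rw [Sylow.coe_subtype, Sylow.coe_subtype, h]))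
    have hcut : (Q : Subgroup G) ⊓ (S₁ : Subgroup G) = D := by
      refine (eq_of_le_of_card_ge (le_inf hDQ hDS) ?_).symm
      obtain ⟨i, hi, hc⟩ := (Nat.dvd_prime_pow hq.out).mp
        (hQ Q ▸ Subgroup.card_dvd_of_le (inf_le_left : (Q : Subgroup G) ⊓ (S₁ : Subgroup G) ≤ Q))
      interval_cases i
      · rw [hc, pow_zero, hDc]; exact hq.out.one_le
      · rw [hc, pow_one, hDc]
      · exfalso
        have h4 : (Q : Subgroup G) ≤ S₁ := by
          rw [← inf_eq_left]
          exact eq_of_le_of_card_ge inf_le_left (by rw [hc, hQ Q])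
        exact hneQ (Sylow.ext (eq_of_le_of_card_ge h4 (by rw [hQ S₁, hQ Q]))).symm
    exact ⟨⟨⟨S₁, by rw [hcut, hDc]⟩, Subtype.ext hcut⟩, Subtype.ext hsub⟩
  rw [Nat.card_eq_of_bijective f hf, Nat.card_congr (Equiv.optionSubtypeNe Q').symm,
    Finite.card_option]

/-- There are at most `q + 1` cuts. -/
theorem card_cuts_le : Nat.card (Cuts Q) * (q - 1) ≤ q ^ 2 - 1 := by
  classical
  have := Fintype.ofFinite (Cuts Q)
  have hdc : ∀ D : Cuts Q, Nat.card D.1 = q := fun D => by
    obtain ⟨R, hR⟩ := D.2; rw [← hR]; exact R.2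
  let f : (Σ D : Cuts Q, {a : D.1 // a ≠ 1}) → {a : ↥(Q : Subgroup G) // a ≠ 1} := fun z =>
    ⟨⟨z.2.1, by obtain ⟨R, hR⟩ := z.1.2; exact (hR.symm.le z.2.1.2).1⟩,
      fun h => z.2.2 (Subtype.ext (by simpa using congrArg Subtype.val h))⟩
  have hf : Function.Injective f := by
    rintro ⟨D, ⟨a, ha⟩, ha1⟩ ⟨D', ⟨b, hb⟩, hb1⟩ h
    have hab : a = b := congrArg (fun z => ((z.1 : ↥(Q : Subgroup G)) : G)) h
    subst hab
    have hne : a ≠ 1 := fun h => ha1 (Subtype.ext h)
    have hgen : ∀ (E : Cuts Q), a ∈ E.1 → zpowers a = E.1 := fun E hE => by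
      refine eq_of_le_of_card_ge (zpowers_le.mpr hE) ?_
      rw [hdc, Nat.card_zpowers]
      rcases (Nat.dvd_prime hq.out).mp (hdc E ▸ Subgroup.orderOf_dvd_natCard _ hE) with h' | h'
      · exact absurd (orderOf_eq_one_iff.mp h') hne
      · exact h'.ge
    obtain rfl : D = D' := Subtype.ext ((hgen D ha).symm.trans (hgen D' hb))
    rfl
  have h := Nat.card_le_card_of_injective f hf
  have hcard : ∀ {H : Subgroup G}, Nat.card {a : H // a ≠ 1} = Nat.card H - 1 := fun {H} => by
    have := Fintype.ofFinite H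
    rw [Nat.card_eq_fintype_card, Fintype.card_subtype_compl, Fintype.card_subtype_eq,
      Nat.card_eq_fintype_card]
  rw [hcard, hQ Q, Nat.card_sigma] at h
  simp only [hcard, hdc, Finset.sum_const, Finset.card_univ, smul_eq_mul] at h
  rwa [Nat.card_eq_fintype_card]

omit hq hQ in
/-- The conjugates of a cut by `N(Q)` are cuts. -/
theorem index_le_card_cuts (D : Cuts Q) :
    ((normalizer ((D.1 : Subgroup G) : Set G)).relIndex
      (normalizer ((Q : Subgroup G) : Set G))) ≤ Nat.card (Cuts Q) := by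
  classical
  set N := normalizer ((Q : Subgroup G) : Set G)
  let _ : MulAction ↥N (Cuts Q) :=
    { smul := fun g E => ⟨E.1.map (MulAut.conj (g : G)).toMonoidHom, by
        obtain ⟨R, hR⟩ := E.2
        have hgQ : (g : G) • Q = Q := Sylow.smul_eq_iff_mem_normalizer.mpr g.2
        have h : (Q : Subgroup G) ⊓ (((g : G) • R.1 : Sylow q G) : Subgroup G) =
            E.1.map (MulAut.conj (g : G)).toMonoidHom := by
          rw [← hR, map_inf _ _ _ (MulAut.conj (g : G)).injective]
          congr 1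
          · conv_lhs => rw [← hgQ, Sylow.coe_subgroup_smul]
            rfl
        exact ⟨⟨(g : G) • R.1, by
          rw [h, card_map_of_injective (MulAut.conj (g : G)).injective, ← hR]; exact R.2⟩, h⟩⟩
      one_smul := fun E => Subtype.ext (by
        show E.1.map (MulAut.conj (1 : G)).toMonoidHom = E.1
        rw [map_one]; exact Subgroup.map_id _)
      mul_smul := fun g h E => Subtype.ext (by
        show E.1.map (MulAut.conj ((g : G) * h)).toMonoidHom =
          (E.1.map (MulAut.conj (h : G)).toMonoidHom).map (MulAut.conj (g : G)).toMonoidHom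
        rw [Subgroup.map_map, map_mul]; rfl) }
  have hstab : stabilizer ↥N D = (normalizer ((D.1 : Subgroup G) : Set G)).subgroupOf N := by
    ext g
    rw [mem_stabilizer_iff, mem_subgroupOf, mem_normalizer_iff]
    constructor
    · intro h a
      have h' : D.1.map (MulAut.conj (g : G)).toMonoidHom = D.1 := congrArg Subtype.val h
      constructor
      · intro ha; rw [← h']; exact ⟨a, ha, rfl⟩
      · intro ha
        rw [← h'] at ha
        obtain ⟨b, hb, hba⟩ := ha
        have : b = a := (MulAut.conj (g : G)).injective hba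
        exact this ▸ hb
    · intro h
      refine Subtype.ext ?_
      ext a
      show a ∈ D.1.map (MulAut.conj (g : G)).toMonoidHom ↔ _
      rw [mem_map]
      exact ⟨fun ⟨b, hb, hba⟩ => hba ▸ (h b).mp hb, fun ha => ⟨(g : G)⁻¹ * a * g,
        (h _).mpr (by simpa [mul_assoc] using ha), by simp [mul_assoc]⟩⟩
  rw [relIndex, ← hstab, index_stabilizer]
  exact Nat.card_le_card_of_injective _ Subtype.val_injective

end Square

end Cfsg.Agent.SO89
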