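import Cfsg.Agent.SO89.Cuts

set_option autoImplicit false

/-!
# Orders killed through normalisers of Sylow subgroups of prime order
-/

namespace Cfsg.Agent.SO89

open Subgroup SmallGroups

variable {G : Type*} [Group G] [Finite G] [IsSimpleGroup G]

/-- The data of a Sylow subgroup of prime order: `|N|`, `e` and `|C|`. -/
theorem shape_eq (hG : ¬ IsMulCommutative G) {q m d N : ℕ} [hq : Fact q.Prime]
    (hn : Nat.card G = q ^ 1 * m) (hm : ¬ q ∣ m) (hd : Nat.card (Sylow q G) = d)
    (hN : q ^ 1 * m = N * d) (P : Sylow q G) :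
    Nat.card ↥(P : Subgroup G) = q ∧
    Nat.card ↥(normalizer ((P : Subgroup G) : Set G)) = N ∧
    ∃ e, e ∈ (q - 1).divisors ∧ 2 ≤ e ∧ N % e = 0 ∧ (N / e) % q = 0 ∧
      Nat.card ↥(centralizer ((P : Subgroup G) : Set G)) = N / e ∧
      (centralizer ((P : Subgroup G) : Set G)).relIndex (normalizer ((P : Subgroup G) : Set G)) = e := by
  have hP : Nat.card ↥(P : Subgroup G) = q := (card_sylow_eq hn hm P).trans (pow_one q)
  have hNc : Nat.card ↥(normalizer ((P : Subgroup G) : Set G)) = N :=
    normalizer_conj_eq_card P hd (hn.trans hN)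
  obtain ⟨e, he2, hedvd, hmul, hrel, hqC⟩ := shape hG P hP
  rw [hNc] at hmul
  have hC : Nat.card ↥(centralizer ((P : Subgroup G) : Set G)) = N / e := by
    rw [← hmul, Nat.mul_div_cancel_left _ (by omega)]
  refine ⟨hP, hNc, e, Nat.mem_divisors.mpr ⟨hedvd, by have := hq.out.two_le; omega⟩, he2, ?_, ?_, hC, hrel⟩
  · rw [← hmul]; exact Nat.mul_mod_right _ _
  · rw [← hC]; exact Nat.mod_eq_zero_of_dvd hqC

theorem not_3696 (hG : ¬ IsMulCommutative G) : Nat.card G ≠ 3696 := by
  intro hn
  have : Fact (Nat.Prime 3) := ⟨by norm_num⟩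
  have : Fact (Nat.Prime 11) := ⟨by norm_num⟩
  have h11 := sylow_mem hG (q := 11) (a := 1) (m := 336) (by rw [hn]; norm_num) (by norm_num)
    (by norm_num) (by norm_num) [56] (by decide +kernel)
  have h3 := sylow_mem hG (q := 3) (a := 1) (m := 1232) (by rw [hn]; norm_num) (by norm_num)
    (by norm_num) (by norm_num) [22, 88, 154, 616] (by decide +kernel)
  obtain ⟨P⟩ := (inferInstance : Nonempty (Sylow 11 G))
  obtain ⟨hP, -, e, he, he2, heN, -, hC, -⟩ := shape_eq hG (q := 11) (m := 336) (N := 66)
    (by rw [hn]; norm_num) (by norm_num) (List.mem_singleton.mp h11) (by norm_num) P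
  have he' : e = 2 := by
    have : e ≤ 10 := Nat.divisor_le he
    interval_cases e <;> revert he heN <;> decide
  subst he'
  have hR : ∀ R : Sylow 3 G, Nat.card ↥(R : Subgroup G) = 3 := fun R =>
    (card_sylow_eq (a := 1) (m := 1232) (by rw [hn]; norm_num) (by norm_num) R).trans (pow_one 3)
  have h := cross_normalizer P hP hR (by rw [hC]; norm_num)
  rw [hn] at h
  simp only [List.mem_cons, List.not_mem_nil, or_false] at h3
  rcases h3 with h3 | h3 | h3 | h3 <;> rw [h3] at h <;> revert h <;> decide

theorem not_3780 (hG : ¬ IsMulCommutative G) : Nat.card G ≠ 3780 := by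
  intro hn
  have : Fact (Nat.Prime 5) := ⟨by norm_num⟩
  have : Fact (Nat.Prime 7) := ⟨by norm_num⟩
  have h7 := sylow_mem hG (q := 7) (a := 1) (m := 540) (by rw [hn]; norm_num) (by norm_num)
    (by norm_num) (by norm_num) [36] (by decide +kernel)
  have h5 := sylow_mem hG (q := 5) (a := 1) (m := 756) (by rw [hn]; norm_num) (by norm_num)
    (by norm_num) (by norm_num) [21, 126] (by decide +kernel)
  obtain ⟨P⟩ := (inferInstance : Nonempty (Sylow 7 G))
  obtain ⟨hP, -, e, he, he2, heN, -, hC, -⟩ := shape_eq hG (q := 7) (m := 540) (N := 105)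
    (by rw [hn]; norm_num) (by norm_num) (List.mem_singleton.mp h7) (by norm_num) P
  have he' : e = 3 := by
    have : e ≤ 6 := Nat.divisor_le he
    interval_cases e <;> revert he heN <;> decide
  subst he'
  have hR : ∀ R : Sylow 5 G, Nat.card ↥(R : Subgroup G) = 5 := fun R =>
    (card_sylow_eq (a := 1) (m := 756) (by rw [hn]; norm_num) (by norm_num) R).trans (pow_one 5)
  have h := cross_normalizer P hP hR (by rw [hC]; norm_num)
  rw [hn] at h
  simp only [List.mem_cons, List.not_mem_nil, or_false] at h5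
  rcases h5 with h5 | h5 <;> rw [h5] at h <;> revert h <;> decide

theorem not_4620 (hG : ¬ IsMulCommutative G) : Nat.card G ≠ 4620 := by
  intro hn
  have : Fact (Nat.Prime 5) := ⟨by norm_num⟩
  have : Fact (Nat.Prime 7) := ⟨by norm_num⟩
  have : Fact (Nat.Prime 11) := ⟨by norm_num⟩
  have h11 := sylow_mem hG (q := 11) (a := 1) (m := 420) (by rw [hn]; norm_num) (by norm_num)
    (by norm_num) (by norm_num) [210] (by decide +kernel)
  have h7 := sylow_mem hG (q := 7) (a := 1) (m := 660) (by rw [hn]; norm_num) (by norm_num)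
    (by norm_num) (by norm_num) [330] (by decide +kernel)
  have h5 := sylow_mem hG (q := 5) (a := 1) (m := 924) (by rw [hn]; norm_num) (by norm_num)
    (by norm_num) (by norm_num) [66, 231] (by decide +kernel)
  have hR7 : ∀ R : Sylow 7 G, Nat.card ↥(R : Subgroup G) = 7 := fun R =>
    (card_sylow_eq (a := 1) (m := 660) (by rw [hn]; norm_num) (by norm_num) R).trans (pow_one 7)
  have hR5 : ∀ R : Sylow 5 G, Nat.card ↥(R : Subgroup G) = 5 := fun R =>
    (card_sylow_eq (a := 1) (m := 924) (by rw [hn]; norm_num) (by norm_num) R).trans (pow_one 5)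
  have hR11 : ∀ R : Sylow 11 G, Nat.card ↥(R : Subgroup G) = 11 := fun R =>
    (card_sylow_eq (a := 1) (m := 420) (by rw [hn]; norm_num) (by norm_num) R).trans (pow_one 11)
  rw [List.mem_singleton] at h11 h7
  simp only [List.mem_cons, List.not_mem_nil, or_false] at h5
  rcases h5 with h5 | h5
  · obtain ⟨P⟩ := (inferInstance : Nonempty (Sylow 5 G))
    obtain ⟨hP, -, e, he, he2, heN, -, hC, -⟩ := shape_eq hG (q := 5) (m := 924) (N := 70)
      (by rw [hn]; norm_num) (by norm_num) h5 (by norm_num) P
    have he' : e = 2 := by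
      have : e ≤ 4 := Nat.divisor_le he
      interval_cases e <;> revert he heN <;> decide
    subst he'
    have h := cross_normalizer P hP hR7 (by rw [hC]; norm_num)
    rw [hn, h7] at h
    revert h; decide
  · have h := card_three_orders (G := G) (p := 5) (q := 7) (r := 11) (by norm_num) (by norm_num)
      (by norm_num) hR5 hR7 hR11
    rw [h5, h7, h11, hn] at h
    omega

theorem not_4400 (hG : ¬ IsMulCommutative G) : Nat.card G ≠ 4400 := by
  intro hn
  have : Fact (Nat.Prime 2) := ⟨Nat.prime_two⟩
  have : Fact (Nat.Prime 5) := ⟨by norm_num⟩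
  have : Fact (Nat.Prime 11) := ⟨by norm_num⟩
  have h11 := sylow_mem hG (q := 11) (a := 1) (m := 400) (by rw [hn]; norm_num) (by norm_num)
    (by norm_num) (by norm_num) [100] (by decide +kernel)
  have h5 := sylow_mem hG (q := 5) (a := 2) (m := 176) (by rw [hn]; norm_num) (by norm_num)
    (by norm_num) (by norm_num) [11, 16, 176] (by decide +kernel)
  obtain ⟨P⟩ := (inferInstance : Nonempty (Sylow 11 G))
  obtain ⟨hP, hN, e, he, he2, heN, -, hC, -⟩ := shape_eq hG (q := 11) (m := 400) (N := 44)
    (by rw [hn]; norm_num) (by norm_num) (List.mem_singleton.mp h11) (by norm_num) P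
  have he' : e = 2 := by
    have : e ≤ 10 := Nat.divisor_le he
    interval_cases e <;> revert he heN <;> decide
  subst he'
  obtain ⟨Q⟩ := (inferInstance : Nonempty (Sylow 5 G))
  have hQ : Nat.card ↥(Q : Subgroup G) = 5 ^ 2 :=
    card_sylow_eq (a := 2) (m := 176) (by rw [hn]; norm_num) (by norm_num) Q
  simp only [List.mem_cons, List.not_mem_nil, or_false] at h5
  rcases h5 with h5 | h5 | h5
  · obtain ⟨t, ht⟩ := exists_prime_orderOf_dvd_card'
      (G := centralizer ((P : Subgroup G) : Set G)) 2 (by rw [hC]; norm_num)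
    rw [← Subgroup.orderOf_coe] at ht
    obtain ⟨x, hx, -, hxo, -⟩ := exists_generator hP
    have hH := normalizer_conj_eq_card Q h5 (k := 400) (by rw [hn])
    have hHtop : normalizer ((Q : Subgroup G) : Set G) ≠ ⊤ := fun h => by
      rw [h, card_top, hn] at hH; omega
    have hidx : (normalizer ((Q : Subgroup G) : Set G)).index = 11 :=
      Q.card_eq_index_normalizer.symm.trans h5
    exact small_action hG (q := 11) (r := 2) (by norm_num) hHtop hxo ht
      (mem_centralizer_iff.mp t.2 x hx) (by rw [hidx]; decide) (Or.inl (by rw [hH]; norm_num))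
  · -- `N(Q)` of order `275` would normalise a Sylow `11`-subgroup
    have hH := normalizer_conj_eq_card Q h5 (k := 275) (by rw [hn])
    set H := normalizer ((Q : Subgroup G) : Set G)
    have h1 : Nat.card (Sylow 11 H) = 1 := by
      have h := card_sylow_mem_list (G := H) (p := 11) (a := 1) (m := 25)
        (by rw [hH]; norm_num) (by norm_num)
      rwa [show (Nat.divisors 25).filter (fun d => d % 11 = 1) = {1} by decide,
        Finset.mem_singleton] at h
    obtain ⟨S⟩ := (inferInstance : Nonempty (Sylow 11 H))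
    have hSn := normal_of_card_sylow_eq_one h1 S
    have hSc : Nat.card ↥(S : Subgroup H) = 11 :=
      (card_sylow_eq (a := 1) (m := 25) (by rw [hH]; norm_num) (by norm_num) S).trans (pow_one 11)
    obtain ⟨P', hP'⟩ := (S.2.map H.subtype).exists_le_sylow
    have hP'c : Nat.card ↥(P' : Subgroup G) = 11 :=
      (card_sylow_eq (a := 1) (m := 400) (by rw [hn]; norm_num) (by norm_num) P').trans (pow_one 11)
    have heq : (S : Subgroup H).map H.subtype = (P' : Subgroup G) :=
      eq_of_le_of_card_ge hP' (by rw [card_map_of_injective (subtype_injective H), hSc, hP'c])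
    have hle : H ≤ normalizer ((P' : Subgroup G) : Set G) := by
      rw [← heq]
      intro h hh
      rw [mem_normalizer_iff]
      intro a
      constructor
      · rintro ⟨b, hb, rfl⟩
        exact ⟨⟨h, hh⟩ * b * ⟨h, hh⟩⁻¹, hSn.conj_mem b hb _, rfl⟩
      · rintro ⟨b, hb, hb'⟩
        refine ⟨⟨h, hh⟩⁻¹ * b * ⟨h, hh⟩, ?_, ?_⟩
        · simpa only [inv_inv, SetLike.mem_coe] using hSn.conj_mem b hb ⟨h, hh⟩⁻¹
        · simp only [coe_subtype, coe_mul, coe_inv] at hb' ⊢
          rw [hb']
          group
    have h := Subgroup.card_dvd_of_le hle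
    rw [hH, normalizer_conj_eq_card P' (List.mem_singleton.mp h11) (k := 44) (by rw [hn])] at h
    norm_num at h
  · have hH := normalizer_conj_eq_card Q h5 (k := 25) (by rw [hn])
    refine not_normalizer_le_centralizer hG (by rw [hn]; norm_num) Q ?_
    have heq : (Q : Subgroup G) = normalizer ((Q : Subgroup G) : Set G) :=
      eq_of_le_of_card_ge le_normalizer (by rw [hH, hQ]; norm_num)
    rw [← heq]
    exact sylow_le_centralizer_of_le (fun S => card_sylow_eq (a := 2) (m := 176)
      (by rw [hn]; norm_num) (by norm_num) S) Q le_rfl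

end Cfsg.Agent.SO89
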