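import Cfsg.Agent.SO89.OrdersA
import Cfsg.Agent.ZStar.Main
import Cfsg.Agent.S0216

set_option autoImplicit false

/-!
# Orders killed through centralisers fixing few Sylow subgroups
-/

namespace Cfsg.Agent.SO89

open Subgroup SmallGroups MulAction

variable {G : Type*} [Group G] [Finite G] [IsSimpleGroup G]

omit [IsSimpleGroup G] in
/-- A subgroup containing `P` has `i * j` elements, `i ∣ |N(P)|`, `j ≡ 1`. -/
theorem sub_data {q : ℕ} [hq : Fact q.Prime] (P : Sylow q G) {A : Subgroup G}
    (hPA : (P : Subgroup G) ≤ A) :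
    ∃ i j, Nat.card A = i * j ∧ i ∣ Nat.card ↥(normalizer ((P : Subgroup G) : Set G)) ∧
      Nat.card ↥(P : Subgroup G) ∣ i ∧ j % q = 1 ∧ (j = 1 → A ≤ normalizer ((P : Subgroup G) : Set G)) := by
  set P' : Sylow q A := P.subtype hPA
  refine ⟨Nat.card ↥(normalizer ((P' : Subgroup A) : Set A)), Nat.card (Sylow q A),
    (card_normalizer_mul P').symm, ?_, ?_, ?_, ?_⟩
  · rw [show normalizer ((P' : Subgroup A) : Set A) =
      (normalizer ((P : Subgroup G) : Set G)).subgroupOf A from
        (subgroupOf_normalizer_eq hPA).symm, ← inf_subgroupOf_right,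
      Nat.card_congr (subgroupOfEquivOfLe inf_le_right).toEquiv]
    exact Subgroup.card_dvd_of_le inf_le_left
  · rw [← Nat.card_congr (subgroupOfEquivOfLe hPA).toEquiv]
    exact Subgroup.card_dvd_of_le le_normalizer
  · have h := card_sylow_modEq_one q A
    unfold Nat.ModEq at h
    rwa [Nat.mod_eq_of_lt hq.out.one_lt] at h
  · intro h
    exact (normal_subgroupOf_iff_le_normalizer hPA).mp (normal_of_card_sylow_eq_one h P')

omit [IsSimpleGroup G] in
omit [Finite G] in
theorem le_centralizer_singleton {H : Subgroup G} {y : G}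
    (hy : y ∈ centralizer (H : Set G)) : H ≤ centralizer ({y} : Set G) := fun a ha =>
  mem_centralizer_singleton_iff.mpr (mem_centralizer_iff.mp hy a ha)

theorem not_5148 (hG : ¬ IsMulCommutative G) : Nat.card G ≠ 5148 := by
  intro hn
  have : Fact (Nat.Prime 3) := ⟨by norm_num⟩
  have : Fact (Nat.Prime 11) := ⟨by norm_num⟩
  have h11 := sylow_mem hG (q := 11) (a := 1) (m := 468) (by rw [hn]; norm_num) (by norm_num)
    (by norm_num) (by norm_num) [78] (by decide +kernel)
  obtain ⟨P⟩ := (inferInstance : Nonempty (Sylow 11 G))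
  obtain ⟨hP, hN, e, he, he2, heN, -, hC, -⟩ := shape_eq hG (q := 11) (m := 468) (N := 66)
    (by rw [hn]; norm_num) (by norm_num) (List.mem_singleton.mp h11) (by norm_num) P
  have he' : e = 2 := by
    have : e ≤ 10 := Nat.divisor_le he
    interval_cases e <;> revert he heN <;> decide
  subst he'
  obtain ⟨y, hy⟩ := exists_prime_orderOf_dvd_card'
    (G := centralizer ((P : Subgroup G) : Set G)) 3 (by rw [hC]; norm_num)
  rw [← Subgroup.orderOf_coe] at hy
  obtain ⟨R, hR⟩ := exists_mem_sylow hy
  have hR9 : ∀ S : Sylow 3 G, Nat.card ↥(S : Subgroup G) = 3 ^ 2 := fun S =>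
    card_sylow_eq (a := 2) (m := 572) (by rw [hn]; norm_num) (by norm_num) S
  set A := centralizer ({(y : G)} : Set G)
  have hPA : (P : Subgroup G) ≤ A := le_centralizer_singleton y.2
  have hRA : (R : Subgroup G) ≤ A := by
    intro a ha
    exact mem_centralizer_singleton_iff.mpr (comm_of_mem_sylow hR9 R ha hR)
  have hy1 : (y : G) ≠ 1 := fun h => by rw [h, orderOf_one] at hy; omega
  have hAtop : A ≠ ⊤ := centralizer_ne_top hG hy1
  obtain ⟨i, j, hA, hi, hqi, hj, -⟩ := sub_data P hPA
  have h9 : 9 ∣ Nat.card A := by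
    have := Subgroup.card_dvd_of_le hRA
    rwa [hR9 R] at this
  have hdvd : Nat.card A ∣ 5148 := hn ▸ card_subgroup_dvd_card A
  have hne : Nat.card A ≠ 5148 := fun h => hAtop (eq_top_of_card_eq _ (h.trans hn.symm))
  rw [hA] at h9 hdvd hne
  rw [hP] at hqi
  rw [hN] at hi
  have hkey : ∀ i ∈ Nat.divisors 66, ∀ j < 469, (decide (11 ∣ i) && decide (j % 11 = 1) &&
      decide (9 ∣ i * j) && decide (i * j ∣ 5148) && decide (i * j ≠ 5148) &&
      Classification.Sieve.big 5148 (5148 / (i * j))) = true → i * j = 396 := by decide +kernel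
  have hjle : j < 469 := by
    have h1 : i * j ≤ 5148 := Nat.le_of_dvd (by norm_num) hdvd
    have h2 : 11 ≤ i := Nat.le_of_dvd (Nat.pos_of_dvd_of_pos hi (by norm_num)) hqi
    have := Nat.mul_le_mul_right j h2
    omega
  have hbig : Classification.Sieve.big 5148 (5148 / (i * j)) = true := by
    have h := Classification.Sieve.big_of_ne_top hG hAtop
    have hidx : Nat.card G / Nat.card A = A.index := by
      rw [← A.card_mul_index, Nat.mul_div_cancel_left _ Nat.card_pos]
    rwa [← hidx, hn, hA] at h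
  have h396 := hkey i (Nat.mem_divisors.mpr ⟨hi, by norm_num⟩) j hjle
    (by simp [hqi, hj, h9, hdvd, hne, hbig])
  have hidx : A.index = 13 := by
    have h := A.card_mul_index
    rw [hA, h396, hn] at h
    omega
  obtain ⟨x, hx, -, hxo, -⟩ := exists_generator hP
  exact small_action hG (q := 11) (r := 3) (by norm_num) hAtop hxo hy
    (mem_centralizer_iff.mp y.2 x hx) (by rw [hidx]; decide) (Or.inr (by rw [hidx]; norm_num))

theorem not_4680 (hG : ¬ IsMulCommutative G) : Nat.card G ≠ 4680 := by
  intro hn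
  have : Fact (Nat.Prime 3) := ⟨by norm_num⟩
  have : Fact (Nat.Prime 13) := ⟨by norm_num⟩
  have h13 := sylow_mem hG (q := 13) (a := 1) (m := 360) (by rw [hn]; norm_num) (by norm_num)
    (by norm_num) (by norm_num) [40] (by decide +kernel)
  have h3 := sylow_mem hG (q := 3) (a := 2) (m := 520) (by rw [hn]; norm_num) (by norm_num)
    (by norm_num) (by norm_num) [13, 40, 52, 130, 520] (by decide +kernel)
  obtain ⟨P⟩ := (inferInstance : Nonempty (Sylow 13 G))
  have hd := List.mem_singleton.mp h13
  obtain ⟨hP, hN, e, he, he2, heN, hC13, hC, -⟩ := shape_eq hG (q := 13) (m := 360) (N := 117)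
    (by rw [hn]; norm_num) (by norm_num) hd (by norm_num) P
  have he' : e = 3 := by
    have : e ≤ 12 := Nat.divisor_le he
    interval_cases e <;> revert he heN hC13 <;> decide
  subst he'
  obtain ⟨y, hy⟩ := exists_prime_orderOf_dvd_card'
    (G := centralizer ((P : Subgroup G) : Set G)) 3 (by rw [hC]; norm_num)
  rw [← Subgroup.orderOf_coe] at hy
  have hyN := centralizer_le_normalizer _ y.2
  have hf : Nat.card (fixedBy (G ⧸ normalizer ((P : Subgroup G) : Set G)) (y : G)) = 1 := by
    have h := fixed_add_eq hG (r := 3) (by norm_num : (3 : ℕ) ≠ 13) P hP hy y.2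
      (by rw [hd]; decide)
    rw [hd, show Classification.movedBlock 3 = 3 from rfl] at h
    omega
  obtain ⟨R, hR⟩ := exists_mem_sylow hy
  have hR9 : ∀ S : Sylow 3 G, Nat.card ↥(S : Subgroup G) = 3 ^ 2 := fun S =>
    card_sylow_eq (a := 2) (m := 520) (by rw [hn]; norm_num) (by norm_num) S
  have hRN : (R : Subgroup G) ≤ normalizer ((P : Subgroup G) : Set G) := fun a ha => by
    refine mem_of_fixed_one P hyN hf ?_
    rw [(comm_of_mem_sylow hR9 R ha hR).eq, mul_inv_cancel_right]
    exact hyN
  have hNR : normalizer ((R : Subgroup G) : Set G) ≤ normalizer ((P : Subgroup G) : Set G) :=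
    fun g hg => mem_of_fixed_one P hyN hf (hRN ((mem_normalizer_iff.mp hg y).mp hR))
  have hdiv := Subgroup.card_dvd_of_le hNR
  rw [hN] at hdiv
  have hmul := card_normalizer_mul R
  rw [hn] at hmul
  simp only [List.mem_cons, List.not_mem_nil, or_false] at h3
  rcases h3 with h3 | h3 | h3 | h3 | h3
  · rw [h3] at hmul; have := Nat.le_of_dvd (by norm_num) hdiv; omega
  · -- `N(R) = N(P)` would centralise `R` by `P`
    have hcard : Nat.card ↥(normalizer ((R : Subgroup G) : Set G)) = 117 := by rw [h3] at hmul; omega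
    have heq := eq_of_le_of_card_ge hNR (by rw [hN, hcard])
    obtain ⟨x, hx, -, hxo, hxz⟩ := exists_generator hP
    have hxR : x ∈ normalizer ((R : Subgroup G) : Set G) := heq.symm ▸ le_normalizer hx
    have hxc := centralizes_of_order (r := 3) (s := 13) (R : Subgroup G) (hR9 R) hxo hxR
      (by norm_num) (by norm_num)
    have hle : (R : Subgroup G) ≤ centralizer ((P : Subgroup G) : Set G) := by
      intro a ha
      rw [mem_centralizer_iff, ← hxz]
      intro b hb
      obtain ⟨k, rfl⟩ := mem_zpowers_iff.mp hb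
      exact (Commute.zpow_left (mem_centralizer_iff.mp hxc a ha).symm k).eq
    have h := Subgroup.card_dvd_of_le hle
    rw [hR9 R, hC] at h
    norm_num at h
  · have : Nat.card ↥(normalizer ((R : Subgroup G) : Set G)) = 90 := by rw [h3] at hmul; omega
    rw [this] at hdiv; norm_num at hdiv
  · have : Nat.card ↥(normalizer ((R : Subgroup G) : Set G)) = 36 := by rw [h3] at hmul; omega
    rw [this] at hdiv; norm_num at hdiv
  · have hcard : Nat.card ↥(normalizer ((R : Subgroup G) : Set G)) = 9 := by rw [h3] at hmul; omega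
    refine not_normalizer_le_centralizer hG (by rw [hn]; norm_num) R ?_
    rw [← (eq_of_le_of_card_ge le_normalizer (by rw [hcard, hR9 R]; norm_num) :
      (R : Subgroup G) = normalizer ((R : Subgroup G) : Set G))]
    exact sylow_le_centralizer_of_le hR9 R le_rfl

omit [IsSimpleGroup G] in
/-- A Sylow subgroup of a subgroup of index prime to `p` is one of the whole group. -/
theorem exists_sylow_le {p : ℕ} [Fact p.Prime] (H : Subgroup G)
    (h : ∀ T : Sylow p G, Nat.card ↥(T : Subgroup G) ∣ Nat.card H) :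
    ∃ T : Sylow p G, (T : Subgroup G) ≤ H := by
  obtain ⟨S⟩ := (inferInstance : Nonempty (Sylow p H))
  obtain ⟨T, hT⟩ := (S.2.map H.subtype).exists_le_sylow
  refine ⟨T, ?_⟩
  rw [← eq_of_le_of_card_ge hT ?_]
  · exact map_subtype_le _
  · rw [card_map_of_injective (subtype_injective H)]
    obtain ⟨k, hk⟩ := T.2.exists_card_eq
    rw [hk, S.card_eq_multiplicity]
    refine Nat.le_of_dvd (pow_pos (Fact.out : p.Prime).pos _) (pow_dvd_pow p ?_)
    exact (Nat.Prime.pow_dvd_iff_le_factorization (Fact.out) Nat.card_pos.ne').mp (hk ▸ h T)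

theorem not_5940 (hG : ¬ IsMulCommutative G) : Nat.card G ≠ 5940 := by
  intro hn
  have : Fact (Nat.Prime 2) := ⟨Nat.prime_two⟩
  have : Fact (Nat.Prime 11) := ⟨by norm_num⟩
  have h11 := sylow_mem hG (q := 11) (a := 1) (m := 540) (by rw [hn]; norm_num) (by norm_num)
    (by norm_num) (by norm_num) [45] (by decide +kernel)
  obtain ⟨P⟩ := (inferInstance : Nonempty (Sylow 11 G))
  have hd := List.mem_singleton.mp h11
  obtain ⟨hP, hN, e, he, he2, heN, -, hC, -⟩ := shape_eq hG (q := 11) (m := 540) (N := 132)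
    (by rw [hn]; norm_num) (by norm_num) hd (by norm_num) P
  have he' : e = 2 := by
    have : e ≤ 10 := Nat.divisor_le he
    interval_cases e <;> revert he heN <;> decide
  subst he'
  obtain ⟨t, ht⟩ := exists_prime_orderOf_dvd_card'
    (G := centralizer ((P : Subgroup G) : Set G)) 2 (by rw [hC]; norm_num)
  rw [← Subgroup.orderOf_coe] at ht
  have hf : Nat.card (fixedBy (G ⧸ normalizer ((P : Subgroup G) : Set G)) (t : G)) = 1 := by
    have h := fixed_add_eq hG (r := 2) (by norm_num : (2 : ℕ) ≠ 11) P hP ht t.2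
      (by rw [hd]; decide)
    rw [hd, show Classification.movedBlock 2 = 4 from rfl] at h
    omega
  have hT4 : ∀ T : Sylow 2 G, Nat.card ↥(T : Subgroup G) = 2 ^ 2 := fun T =>
    card_sylow_eq (a := 2) (m := 1485) (by rw [hn]; norm_num) (by norm_num) T
  obtain ⟨T, hTN⟩ := exists_sylow_le (p := 2) (normalizer ((P : Subgroup G) : Set G))
    (fun T => by rw [hT4 T, hN]; norm_num)
  obtain ⟨w, hwT, hwC⟩ : ∃ w ∈ (T : Subgroup G), w ∉ centralizer ((P : Subgroup G) : Set G) := by
    by_contra hc
    push Not at hc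
    have h := Subgroup.card_dvd_of_le hc
    rw [hT4 T, hC] at h
    norm_num at h
  have hw : orderOf w = 2 := by
    obtain ⟨k, hk, hwk⟩ := (Nat.dvd_prime_pow Nat.prime_two).mp
      (hT4 T ▸ Subgroup.orderOf_dvd_natCard _ hwT)
    interval_cases k
    · rw [pow_zero, orderOf_eq_one_iff] at hwk
      exact absurd (hwk ▸ one_mem _) hwC
    · rw [hwk, pow_one]
    · refine absurd ?_ (not_isCyclic_sylow_minFac hG
        ((Nat.minFac_eq_two_iff _).mpr (by rw [hn]; norm_num)) T)
      exact isCyclic_of_orderOf_eq_card ⟨w, hwT⟩ (by rw [Subgroup.orderOf_mk, hwk, hT4 T])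
  obtain ⟨g, hg⟩ := isConj_iff.mp
    (isConj_involutions hG (fun T => (hT4 T).trans (by norm_num)) ht hw)
  have hgN := mem_of_fixed_one P (centralizer_le_normalizer _ t.2) hf (hg.symm ▸ hTN hwT)
  refine hwC (hg ▸ ?_)
  rw [mem_centralizer_iff]
  intro a ha
  have h1 : g⁻¹ * a * g ∈ (P : Subgroup G) := by
    rw [mem_normalizer_iff.mp hgN]
    rw [show g * (g⁻¹ * a * g) * g⁻¹ = a by group]
    exact ha
  have h2 := mem_centralizer_iff.mp t.2 _ h1
  calc a * (g * t * g⁻¹) = g * (g⁻¹ * a * g * t) * g⁻¹ := by group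
    _ = g * (t * (g⁻¹ * a * g)) * g⁻¹ := by rw [h2]
    _ = g * t * g⁻¹ * a := by group

theorem not_3960 (hG : ¬ IsMulCommutative G) : Nat.card G ≠ 3960 := by
  intro hn
  have : Fact (Nat.Prime 2) := ⟨Nat.prime_two⟩
  have : Fact (Nat.Prime 11) := ⟨by norm_num⟩
  have h11 := sylow_mem hG (q := 11) (a := 1) (m := 360) (by rw [hn]; norm_num) (by norm_num)
    (by norm_num) (by norm_num) [45] (by decide +kernel)
  obtain ⟨P⟩ := (inferInstance : Nonempty (Sylow 11 G))
  have hd := List.mem_singleton.mp h11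
  obtain ⟨hP, hN, e, he, he2, heN, -, hC, -⟩ := shape_eq hG (q := 11) (m := 360) (N := 88)
    (by rw [hn]; norm_num) (by norm_num) hd (by norm_num) P
  have he' : e = 2 := by
    have : e ≤ 10 := Nat.divisor_le he
    interval_cases e <;> revert he heN <;> decide
  subst he'
  obtain ⟨t, ht⟩ := exists_prime_orderOf_dvd_card'
    (G := centralizer ((P : Subgroup G) : Set G)) 2 (by rw [hC]; norm_num)
  rw [← Subgroup.orderOf_coe] at ht
  set N := normalizer ((P : Subgroup G) : Set G) with hNdef
  have htN : (t : G) ∈ N := centralizer_le_normalizer _ t.2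
  have hf : Nat.card (fixedBy (G ⧸ N) (t : G)) = 1 := by
    have h := fixed_add_eq hG (r := 2) (by norm_num : (2 : ℕ) ≠ 11) P hP ht t.2
      (by rw [hd]; decide)
    rw [hd, show Classification.movedBlock 2 = 4 from rfl] at h
    change Nat.card (fixedBy (G ⧸ N) (t : G)) + 4 * 11 = 45 at h
    omega
  set A := centralizer ({(t : G)} : Set G)
  have hT8 : ∀ T : Sylow 2 G, Nat.card ↥(T : Subgroup G) = 8 := fun T =>
    (card_sylow_eq (a := 3) (m := 495) (by rw [hn]; norm_num) (by norm_num) T).trans (by norm_num)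
  have hAN : A ≤ N := fun g hg => mem_of_fixed_one P htN hf (by
    rw [mem_centralizer_singleton_iff.mp hg, mul_inv_cancel_right]; exact htN)
  obtain ⟨T₀⟩ := (inferInstance : Nonempty (Sylow 2 G))
  have h88 : 88 ∣ Nat.card A := Nat.Coprime.mul_dvd_of_dvd_of_dvd (m := 8) (n := 11) (by norm_num)
    (eight_dvd_centralizer hG T₀ (hT8 T₀) ht)
    (hP ▸ Subgroup.card_dvd_of_le (le_centralizer_singleton t.2))
  have hAeq : A = N := eq_of_le_of_card_ge hAN (by
    rw [hN]; exact Nat.le_of_dvd Nat.card_pos h88)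
  obtain ⟨T, hTN⟩ := exists_sylow_le (p := 2) N (fun T => by rw [hT8 T, hN]; norm_num)
  have htT : (t : G) ∈ (T : Subgroup G) := by
    have hT' : (T : Subgroup G) ≤ centralizer ({(t : G)} : Set G) := hTN.trans hAeq.ge
    by_contra hnot
    have htp : IsPGroup 2 (zpowers (t : G)) :=
      IsPGroup.of_card (n := 1) (by rw [Nat.card_zpowers, ht]; norm_num)
    have hle : (T : Subgroup G) ≤ normalizer ((zpowers (t : G) : Subgroup G) : Set G) :=
      fun a ha => centralizer_le_normalizer _ (mem_centralizer_iff.mpr fun b hb => by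
        obtain ⟨k, rfl⟩ := mem_zpowers_iff.mp hb
        exact (Commute.zpow_left (mem_centralizer_singleton_iff.mp (hT' ha)).symm k).eq)
    have h1 : IsPGroup 2 (zpowers (t : G) ⊔ T : Subgroup G) :=
      htp.to_sup_of_normal_left' T.2 hle
    exact hnot (T.3 h1 le_sup_right ▸ mem_sup_left (mem_zpowers _))
  have hodd := (S0216.result T (t : G) ht htT).mp fun g hg =>
    mul_inv_eq_iff_eq_mul.mpr (mem_centralizer_singleton_iff.mp
      (hAeq.ge (mem_of_fixed_one P htN hf (hTN hg))))
  obtain ⟨K, hK, hKodd, hKt⟩ := ZStar.zStar ht hodd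
  rcases IsSimpleGroup.eq_bot_or_eq_top_of_normal K hK with rfl | rfl
  · have hc : (t : G) ∈ center G := mem_center_iff.mpr fun g => by
      have h := hKt g
      rw [mem_bot] at h
      calc g * t = (t * g * (t : G)⁻¹ * g⁻¹) * (g * t) := by rw [h, one_mul]
        _ = t * g := by group
    rw [center_eq_bot_of_not_comm hG, mem_bot] at hc
    rw [hc, orderOf_one] at ht
    omega
  · rw [card_top, hn] at hKodd
    exact absurd hKodd (by decide)

end Cfsg.Agent.SO89
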