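import Cfsg.Agent.Classification.SimpleOrderSieve
import Cfsg.Agent.Lib.SmallGroups.Local
import Cfsg.Agent.Lib.Involution.IndexTwo

set_option autoImplicit false

/-!
# Local tools for simple groups of order between 3640 and 6232
-/

namespace Cfsg.Agent.SO89

open Subgroup MulAction SmallGroups

variable {G : Type*} [Group G] [Finite G] [IsSimpleGroup G]

/-- The shape of the normaliser of a Sylow subgroup of prime order `q`. -/
theorem shape (hG : ¬ IsMulCommutative G) {q : ℕ} [hq : Fact q.Prime] (P : Sylow q G)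
    (hP : Nat.card ↥(P : Subgroup G) = q) :
    ∃ e, 2 ≤ e ∧ e ∣ q - 1 ∧
      e * Nat.card ↥(centralizer ((P : Subgroup G) : Set G)) =
        Nat.card ↥(normalizer ((P : Subgroup G) : Set G)) ∧
      (centralizer ((P : Subgroup G) : Set G)).relIndex (normalizer ((P : Subgroup G) : Set G)) = e ∧
      q ∣ Nat.card ↥(centralizer ((P : Subgroup G) : Set G)) := by
  set N := normalizer ((P : Subgroup G) : Set G)
  set C := centralizer ((P : Subgroup G) : Set G)
  have hqd : q ∣ Nat.card G := by
    conv_lhs => rw [← hP]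
    exact card_subgroup_dvd_card _
  have hmul : C.relIndex N * Nat.card C = Nat.card N := by
    have h := (C.subgroupOf N).card_mul_index
    rw [Nat.card_congr (subgroupOfEquivOfLe (centralizer_le_normalizer _)).toEquiv] at h
    rw [mul_comm]
    exact h
  have h0 : C.relIndex N ≠ 0 := fun h => by
    rw [h, zero_mul] at hmul
    exact Nat.card_pos.ne' hmul.symm
  refine ⟨C.relIndex N, ?_, relIndex_centralizer_dvd_of_prime _ hP, hmul, rfl, ?_⟩
  · have h1 : C.relIndex N ≠ 1 := fun h =>
      not_normalizer_le_centralizer hG hqd P (relIndex_eq_one.mp h)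
    omega
  · have hle : (P : Subgroup G) ≤ C := by
      intro a ha
      rw [mem_centralizer_iff]
      intro b hb
      have hc : IsCyclic ↥(P : Subgroup G) := isCyclic_of_prime_card hP
      exact congrArg Subtype.val ((IsCyclic.isMulCommutative).is_comm.comm
        (⟨b, hb⟩ : ↥(P : Subgroup G)) ⟨a, ha⟩)
    conv_lhs => rw [← hP]
    exact Subgroup.card_dvd_of_le hle

omit [IsSimpleGroup G] in
/-- A centraliser element generates a Sylow subgroup centralised by `P`. -/
theorem cross {q r : ℕ} [Fact q.Prime] [Fact r.Prime] (P : Sylow q G)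
    (hP : Nat.card ↥(P : Subgroup G) = q)
    (hr : ∀ R : Sylow r G, Nat.card ↥(R : Subgroup G) = r)
    (hd : r ∣ Nat.card ↥(centralizer ((P : Subgroup G) : Set G))) :
    ∃ R : Sylow r G, q ∣ Nat.card ↥(centralizer ((R : Subgroup G) : Set G)) := by
  obtain ⟨y, hy⟩ := exists_prime_orderOf_dvd_card' r hd
  rw [← Subgroup.orderOf_coe] at hy
  obtain ⟨R, hR⟩ := exists_mem_sylow hy
  refine ⟨R, ?_⟩
  conv_lhs => rw [← hP]
  refine Subgroup.card_dvd_of_le fun x hx => ?_
  have hy1 : (y : G) ≠ 1 := fun h => (Fact.out : r.Prime).ne_one (by rw [← hy, h, orderOf_one])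
  have hz : zpowers (y : G) = (R : Subgroup G) :=
    eq_of_le_of_card_ge (zpowers_le.mpr hR) (by rw [hr R, Nat.card_zpowers, hy])
  rw [mem_centralizer_iff]
  intro b hb
  rw [SetLike.mem_coe, ← hz] at hb
  obtain ⟨i, rfl⟩ := mem_zpowers_iff.mp hb
  exact ((Commute.zpow_right (mem_centralizer_iff.mp y.2 x hx) i).symm).eq

omit [IsSimpleGroup G] in
/-- The same, read on Sylow numbers: `q` divides the order of some `N(R)`. -/
theorem cross_normalizer {q r : ℕ} [Fact q.Prime] [Fact r.Prime] (P : Sylow q G)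
    (hP : Nat.card ↥(P : Subgroup G) = q)
    (hr : ∀ R : Sylow r G, Nat.card ↥(R : Subgroup G) = r)
    (hd : r ∣ Nat.card ↥(centralizer ((P : Subgroup G) : Set G))) :
    q * Nat.card (Sylow r G) ∣ Nat.card G := by
  obtain ⟨R, hR⟩ := cross P hP hr hd
  rw [← card_normalizer_mul R]
  exact mul_dvd_mul_right (hR.trans (Subgroup.card_dvd_of_le (centralizer_le_normalizer _))) _

omit [IsSimpleGroup G] in
theorem exists_generator {q : ℕ} [hq : Fact q.Prime] {H : Subgroup G} (hP : Nat.card H = q) :
    ∃ x ∈ H, x ≠ 1 ∧ orderOf x = q ∧ zpowers x = H := by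
  obtain ⟨x, hx⟩ := exists_prime_orderOf_dvd_card' (G := H) q (by rw [hP])
  rw [← Subgroup.orderOf_coe] at hx
  exact ⟨x, x.2, fun h => hq.out.ne_one (by rw [← hx, h, orderOf_one]), hx,
    (eq_of_le_of_card_ge (zpowers_le.mpr x.2) (by rw [hP, Nat.card_zpowers, hx]))⟩

/-- A small coset space has no room for commuting elements of two prime orders. -/
theorem small_action (hG : ¬ IsMulCommutative G) {q r : ℕ} [Fact q.Prime] [hr : Fact r.Prime]
    (hrq : r ≠ q) {H : Subgroup G} (hH : H ≠ ⊤) {x y : G} (hx : orderOf x = q) (hy : orderOf y = r)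
    (hxy : Commute x y) (hk : H.index < Classification.movedBlock r * q)
    (h : ¬ q ∣ Nat.card H ∨ H.index < q + r) : False := by
  classical
  have hx1 : x ≠ 1 := fun h => (Fact.out : q.Prime).ne_one (by rw [← hx, h, orderOf_one])
  have hy1 : y ≠ 1 := fun h => hr.out.ne_one (by rw [← hy, h, orderOf_one])
  have hxq : x ^ q = 1 := hx ▸ pow_orderOf_eq_one x
  have hyr : y ^ r = 1 := hy ▸ pow_orderOf_eq_one y
  have hno : ∀ a : G ⧸ H, y • a ≠ a → x • a ≠ a := by
    intro a hya hxa
    rcases h with h | h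
    · obtain ⟨g, rfl⟩ := QuotientGroup.mk_surjective a
      have hmem := (mk_mem_fixedBy_iff H x g).mp hxa
      have ho : orderOf (g⁻¹ * x * g) = q := by
        rw [← hx, ← MulAut.conj_inv_apply]
        exact MulEquiv.orderOf_eq _ x
      exact h (ho ▸ Subgroup.orderOf_dvd_natCard _ hmem)
    · -- the fixed points of `x` are too few to carry an orbit of `y`
      have hmx := Classification.card_moved_pos H hH hx1
      have hqx : q ≤ Nat.card {a : G ⧸ H // x • a ≠ a} :=
        Nat.le_of_dvd hmx (Classification.dvd_card_moved hxq)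
      have hsum := Classification.card_moved_add_fixed (α := G ⧸ H) x
      rw [← index_eq_card] at hsum
      have hstab : stabilizer (zpowers y) a = ⊥ := by
        have hc : (Nat.card (zpowers y)).Prime := by rw [Nat.card_zpowers, hy]; exact hr.out
        have : Fact (Nat.card (zpowers y)).Prime := ⟨hc⟩
        rcases (stabilizer (zpowers y) a).eq_bot_or_eq_top_of_prime_card with h' | h'
        · exact h'
        · exact absurd (show (⟨y, mem_zpowers y⟩ : zpowers y) • a = a from
            mem_stabilizer_iff.mp (h' ▸ mem_top _)) hya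
      have hinj : Function.Injective (fun z : zpowers y => (⟨z • a, by
          show x • (z : G) • a = (z : G) • a
          obtain ⟨i, hi⟩ := mem_zpowers_iff.mp z.2
          rw [← hi, ← mul_smul, (hxy.zpow_right i).eq, mul_smul, hxa]⟩ : fixedBy (G ⧸ H) x)) := by
        intro z w hzw
        have h1 : z • a = w • a := congrArg Subtype.val hzw
        have h2 : w⁻¹ * z ∈ stabilizer (zpowers y) a := by
          rw [mem_stabilizer_iff, mul_smul, h1, inv_smul_smul]
        rw [hstab, mem_bot, inv_mul_eq_one] at h2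
        exact h2.symm
      have h5 := Nat.card_le_card_of_injective _ hinj
      rw [Nat.card_zpowers, hy] at h5
      change r ≤ Nat.card (fixedBy (G ⧸ H) x) at h5
      omega
  have hq : q ∣ Nat.card {a : G ⧸ H // y • a ≠ a} :=
    Classification.dvd_card_moved_of_commute hxy hxq hno
  have hb : Classification.movedBlock r ∣ Nat.card {a : G ⧸ H // y • a ≠ a} := by
    unfold Classification.movedBlock
    split_ifs with h2
    · subst h2; exact Classification.four_dvd_card_moved hG H hyr
    · exact Classification.dvd_card_moved hyr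
  have hcop : (Classification.movedBlock r).Coprime q := by
    unfold Classification.movedBlock
    split_ifs with h2
    · subst h2
      exact Nat.Coprime.pow_left 2 ((Nat.coprime_primes hr.out Fact.out).mpr hrq)
    · exact (Nat.coprime_primes hr.out Fact.out).mpr hrq
  have hle := Nat.le_of_dvd (Classification.card_moved_pos H hH hy1)
    (hcop.mul_dvd_of_dvd_of_dvd hb hq)
  have := Classification.card_moved_add_fixed (α := G ⧸ H) y
  rw [← index_eq_card] at this
  omega

/-- A centralising element moving the only possible number of Sylow subgroups. -/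
theorem fixed_add_eq (hG : ¬ IsMulCommutative G) {q r : ℕ} [Fact q.Prime] [hr : Fact r.Prime]
    (hrq : r ≠ q) (P : Sylow q G) (hP : Nat.card ↥(P : Subgroup G) = q) {y : G}
    (hy : orderOf y = r) (hyC : y ∈ centralizer ((P : Subgroup G) : Set G))
    (hd : Nat.card (Sylow q G) ≤ 2 * (Classification.movedBlock r * q)) :
    Nat.card (fixedBy (G ⧸ normalizer ((P : Subgroup G) : Set G)) y) +
      Classification.movedBlock r * q = Nat.card (Sylow q G) := by
  set N := normalizer ((P : Subgroup G) : Set G)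
  have hy1 : y ≠ 1 := fun h => hr.out.ne_one (by rw [← hy, h, orderOf_one])
  have hyr : y ^ r = 1 := hy ▸ pow_orderOf_eq_one y
  obtain ⟨x, hx, hx1, hxo, -⟩ := exists_generator hP
  have hxq : x ^ q = 1 := hxo ▸ pow_orderOf_eq_one x
  have hqd : q ∣ Nat.card G := by
    conv_lhs => rw [← hP]
    exact card_subgroup_dvd_card _
  have hN : N ≠ ⊤ := fun h => card_sylow_ne_one hG hqd
    (P.card_eq_index_normalizer.trans (by show N.index = 1; rw [h, index_top]))
  have hbase : y • ((1 : G) : G ⧸ N) = ((1 : G) : G ⧸ N) :=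
    (mk_mem_fixedBy_iff N y 1).mpr
      (by rw [inv_one, one_mul, mul_one]; exact centralizer_le_normalizer _ hyC)
  have hq : q ∣ Nat.card {a : G ⧸ N // y • a ≠ a} := by
    refine Classification.dvd_card_moved_of_commute (mem_centralizer_iff.mp hyC x hx) hxq
      fun a ha hxa => ?_
    have h1 : a ∈ fixedBy (G ⧸ N) x := hxa
    rw [fixedBy_eq_base P hP hx hx1, Set.mem_singleton_iff] at h1
    exact ha (by rw [h1]; exact hbase)
  have hb : Classification.movedBlock r ∣ Nat.card {a : G ⧸ N // y • a ≠ a} := by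
    unfold Classification.movedBlock
    split_ifs with h2
    · subst h2; exact Classification.four_dvd_card_moved hG N hyr
    · exact Classification.dvd_card_moved hyr
  have hcop : (Classification.movedBlock r).Coprime q := by
    unfold Classification.movedBlock
    split_ifs with h2
    · subst h2
      exact Nat.Coprime.pow_left 2 ((Nat.coprime_primes hr.out Fact.out).mpr hrq)
    · exact (Nat.coprime_primes hr.out Fact.out).mpr hrq
  obtain ⟨k, hk⟩ := hcop.mul_dvd_of_dvd_of_dvd hb hq
  have hpos := Classification.card_moved_pos N hN hy1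
  have hsum := Classification.card_moved_add_fixed (α := G ⧸ N) y
  have hf : 0 < Nat.card (fixedBy (G ⧸ N) y) :=
    Nat.card_pos_iff.mpr ⟨⟨⟨_, hbase⟩⟩, inferInstance⟩
  rw [show Nat.card (G ⧸ N) = Nat.card (Sylow q G) from P.card_eq_card_quotient_normalizer.symm] at hsum
  rw [hk] at hpos hsum
  have hk1 : k = 1 := by
    by_contra hk1
    have h2 : 2 ≤ k := by
      rcases k with _ | _ | k
      · omega
      · omega
      · omega
    have := Nat.mul_le_mul_left (Classification.movedBlock r * q) h2
    omega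
  subst hk1
  omega

omit [IsSimpleGroup G] in
/-- With a single fixed point, conjugation inside `N(P)` is by elements of `N(P)`. -/
theorem mem_of_fixed_one {q : ℕ} [Fact q.Prime] (P : Sylow q G) {y : G}
    (hyN : y ∈ normalizer ((P : Subgroup G) : Set G))
    (hf : Nat.card (fixedBy (G ⧸ normalizer ((P : Subgroup G) : Set G)) y) = 1) {g : G}
    (hg : g * y * g⁻¹ ∈ normalizer ((P : Subgroup G) : Set G)) :
    g ∈ normalizer ((P : Subgroup G) : Set G) := by
  set N := normalizer ((P : Subgroup G) : Set G)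
  have h1 : ((g⁻¹ : G) : G ⧸ N) ∈ fixedBy (G ⧸ N) y :=
    (mk_mem_fixedBy_iff N y g⁻¹).mpr (by rwa [inv_inv])
  have h2 : ((1 : G) : G ⧸ N) ∈ fixedBy (G ⧸ N) y :=
    (mk_mem_fixedBy_iff N y 1).mpr (by simpa using hyN)
  have hs := (Nat.card_eq_one_iff_unique.mp hf).1
  have := congrArg Subtype.val (hs.elim ⟨_, h1⟩ ⟨_, h2⟩)
  rwa [QuotientGroup.eq, inv_inv, mul_one] at this

omit [IsSimpleGroup G] in
/-- The fusion equation for a centralising element: `n_q` divides `f` times the class size. -/
theorem sylow_dvd_fixed_mul_class {q : ℕ} [Fact q.Prime] (P : Sylow q G) (y : G) :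
    Nat.card (Sylow q G) ∣ Nat.card (fixedBy (G ⧸ normalizer ((P : Subgroup G) : Set G)) y) *
      Nat.card {g : G // IsConj y g} := by
  rw [card_fixedBy_mul, P.card_eq_index_normalizer]
  exact dvd_mul_right _ _

omit [IsSimpleGroup G] in
/-- Counting the elements of three prime orders. -/
theorem card_three_orders {p q r : ℕ} [Fact p.Prime] [Fact q.Prime] [Fact r.Prime]
    (hpq : p ≠ q) (hpr : p ≠ r) (hqr : q ≠ r)
    (hp : ∀ P : Sylow p G, Nat.card ↥(P : Subgroup G) = p)
    (hq : ∀ P : Sylow q G, Nat.card ↥(P : Subgroup G) = q)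
    (hr : ∀ P : Sylow r G, Nat.card ↥(P : Subgroup G) = r) :
    Nat.card (Sylow p G) * (p - 1) + Nat.card (Sylow q G) * (q - 1) +
      Nat.card (Sylow r G) * (r - 1) ≤ Nat.card G := by
  classical
  rw [← card_orderOf_eq hp, ← card_orderOf_eq hq, ← card_orderOf_eq hr, ← Nat.card_sum,
    ← Nat.card_sum]
  refine Nat.card_le_card_of_injective
    (Sum.elim (Sum.elim Subtype.val Subtype.val) Subtype.val) ?_
  rintro ((⟨a, ha⟩ | ⟨a, ha⟩) | ⟨a, ha⟩) ((⟨b, hb⟩ | ⟨b, hb⟩) | ⟨b, hb⟩) h <;>
    simp only [Sum.elim_inl, Sum.elim_inr] at h <;> subst h <;>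
    first
      | rfl
      | exact absurd (ha.symm.trans hb) (by assumption)
      | exact absurd (hb.symm.trans ha) (by assumption)

omit [IsSimpleGroup G] in
theorem card_conj_pos (y : G) : 0 < Nat.card {g : G // IsConj y g} :=
  Nat.card_pos_iff.mpr ⟨⟨⟨y, IsConj.refl y⟩⟩, inferInstance⟩

theorem centralizer_ne_top (hG : ¬ IsMulCommutative G) {y : G} (hy : y ≠ 1) :
    centralizer ({y} : Set G) ≠ ⊤ := by
  intro h
  have hc : y ∈ center G := by
    rw [mem_center_iff]
    intro g
    exact mem_centralizer_singleton_iff.mp (h ▸ mem_top g : g ∈ centralizer ({y} : Set G))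
  rw [center_eq_bot_of_not_comm hG, mem_bot] at hc
  exact hy hc

/-- With a Sylow `2`-subgroup of order eight, `8` divides every involution centraliser. -/
theorem eight_dvd_centralizer (hG : ¬ IsMulCommutative G) (T : Sylow 2 G)
    (hT : Nat.card ↥(T : Subgroup G) = 8) {t : G} (ht : orderOf t = 2) :
    8 ∣ Nat.card ↥(centralizer ({t} : Set G)) := by
  classical
  have : Fact (Nat.Prime 2) := ⟨Nat.prime_two⟩
  suffices h : ∃ T' : Sylow 2 G, ∀ a ∈ (T' : Subgroup G), Commute a t by
    obtain ⟨T', hT'⟩ := h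
    rw [← hT, ← Nat.card_congr (T'.equiv T).toEquiv]
    exact Subgroup.card_dvd_of_le fun a ha => mem_centralizer_singleton_iff.mpr (hT' a ha)
  have htp : IsPGroup 2 (zpowers t) :=
    IsPGroup.of_card (n := 1) (by rw [Nat.card_zpowers, ht]; norm_num)
  obtain ⟨S, hS⟩ := htp.exists_le_sylow
  have htS : t ∈ (S : Subgroup G) := hS (mem_zpowers t)
  have hSc : Nat.card ↥(S : Subgroup G) = 8 := by rw [Nat.card_congr (S.equiv T).toEquiv, hT]
  by_cases hab : ∀ a ∈ (S : Subgroup G), Commute a t
  · exact ⟨S, hab⟩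
  obtain ⟨w, hwS, hw⟩ : ∃ w ∈ (S : Subgroup G), w ^ 2 ≠ 1 := by
    by_contra hc
    push Not at hc
    refine hab fun a ha => ?_
    have ha' : a⁻¹ = a := inv_eq_of_mul_eq_one_left (by rw [← pow_two]; exact hc a ha)
    have ht' : t⁻¹ = t := inv_eq_of_mul_eq_one_left (by rw [← pow_two]; exact hc t htS)
    have hat : (a * t)⁻¹ = a * t :=
      inv_eq_of_mul_eq_one_left (by rw [← pow_two]; exact hc _ (mul_mem ha htS))
    show a * t = t * a
    rw [← hat, mul_inv_rev, ha', ht']
  have hdvd : orderOf w ∣ 2 ^ 3 := by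
    have h := Subgroup.orderOf_dvd_natCard _ hwS
    rw [hSc] at h
    exact h
  have hw4 : orderOf w = 4 := by
    obtain ⟨i, hi, hwi⟩ := (Nat.dvd_prime_pow Nat.prime_two).mp hdvd
    interval_cases i
    · rw [pow_zero, orderOf_eq_one_iff] at hwi
      exact absurd (by rw [hwi, one_pow]) hw
    · exact absurd (by rw [← pow_orderOf_eq_one w, hwi, pow_one]) hw
    · rw [hwi]; norm_num
    · exfalso
      apply hab
      intro a ha
      have hz : zpowers w = (S : Subgroup G) :=
        eq_of_le_of_card_ge (zpowers_le.mpr hwS) (by rw [hSc, Nat.card_zpowers, hwi]; norm_num)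
      rw [← hz] at ha htS
      obtain ⟨i, rfl⟩ := mem_zpowers_iff.mp ha
      obtain ⟨j, rfl⟩ := mem_zpowers_iff.mp htS
      exact (Commute.refl w).zpow_zpow i j
  set M := zpowers w with hM
  have hMS : M ≤ (S : Subgroup G) := zpowers_le.mpr hwS
  have hrel : M.relIndex (S : Subgroup G) = 2 := by
    have h := (M.subgroupOf (S : Subgroup G)).card_mul_index
    rw [Nat.card_congr (subgroupOfEquivOfLe hMS).toEquiv, hM, Nat.card_zpowers, hw4, hSc] at h
    rw [relIndex]
    generalize (M.subgroupOf (S : Subgroup G)).index = i at h ⊢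
    omega
  have hinvol : ∀ u ∈ M, orderOf u = 2 → u = w ^ 2 := by
    intro u hu hu2
    obtain ⟨i, hi, rfl⟩ : ∃ i, i < 4 ∧ u = w ^ i := by
      obtain ⟨i, hi⟩ := mem_zpowers_iff.mp hu
      refine ⟨(i % 4).toNat, by omega, ?_⟩
      rw [← hi, ← zpow_mod_orderOf, hw4, ← zpow_natCast, Int.toNat_of_nonneg (by omega)]
      norm_num
    interval_cases i
    · simp at hu2
    · rw [pow_one, hw4] at hu2; omega
    · rfl
    · rw [Nat.Coprime.orderOf_pow (by rw [hw4]; norm_num), hw4] at hu2; omega
  obtain ⟨g, hg⟩ : ∃ g : G, g * t * g⁻¹ ∈ M := by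
    by_contra hno
    push Not at hno
    obtain ⟨K, hK, hKi, htK⟩ := Involution.thompson_transfer S M hMS hrel
      (by rw [← pow_two, ← ht, pow_orderOf_eq_one]) hno
    rcases IsSimpleGroup.eq_bot_or_eq_top_of_normal K hK with rfl | rfl
    · rw [index_bot] at hKi
      have := isCyclic_of_prime_card (p := 2) hKi
      exact hG IsCyclic.isMulCommutative
    · exact htK (mem_top t)
  have hgt := hinvol _ hg (by rw [← MulAut.conj_apply]; exact (MulEquiv.orderOf_eq _ t).trans ht)
  have hcent : ∀ a ∈ (S : Subgroup G), Commute a (w ^ 2) := by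
    intro a ha
    have hnm : a * w * a⁻¹ ∈ M := by
      have hn : (M.subgroupOf (S : Subgroup G)).Normal := normal_of_index_eq_two hrel
      exact hn.conj_mem ⟨w, hwS⟩ (mem_zpowers w) ⟨a, ha⟩
    have h2 := hinvol _ (pow_mem hnm 2) (by
      rw [conj_pow, ← MulAut.conj_apply, MulEquiv.orderOf_eq, orderOf_pow, hw4]; norm_num)
    rw [conj_pow] at h2
    exact mul_inv_eq_iff_eq_mul.mp h2
  refine ⟨g⁻¹ • S, fun a ha => ?_⟩
  rw [Sylow.coe_subgroup_smul, mem_pointwise_smul_iff_inv_smul_mem, ← map_inv, inv_inv,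
    MulAut.smul_def, MulAut.conj_apply] at ha
  have h := hcent _ ha
  rw [← hgt] at h
  have h' := congrArg (fun z => g⁻¹ * z * g) h.eq
  show a * t = t * a
  calc a * t = g⁻¹ * (g * a * g⁻¹ * (g * t * g⁻¹)) * g := by group
    _ = g⁻¹ * (g * t * g⁻¹ * (g * a * g⁻¹)) * g := by rw [h.eq]
    _ = t * a := by group

/-- All involutions are conjugate when the Sylow `2`-subgroups have order four. -/
theorem isConj_involutions (hG : ¬ IsMulCommutative G)
    (h4 : ∀ T : Sylow 2 G, Nat.card ↥(T : Subgroup G) = 4) {a b : G}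
    (ha : orderOf a = 2) (hb : orderOf b = 2) : IsConj a b := by
  have : Fact (Nat.Prime 2) := ⟨Nat.prime_two⟩
  obtain ⟨T, hT⟩ := exists_mem_sylow hb
  have hle : zpowers b ≤ (T : Subgroup G) := zpowers_le.mpr hT
  have hrel : (zpowers b).relIndex (T : Subgroup G) = 2 := by
    have h := ((zpowers b).subgroupOf (T : Subgroup G)).card_mul_index
    rw [Nat.card_congr (subgroupOfEquivOfLe hle).toEquiv, Nat.card_zpowers, hb, h4 T] at h
    rw [relIndex]
    omega
  obtain ⟨g, hg⟩ : ∃ g : G, g * a * g⁻¹ ∈ zpowers b := by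
    by_contra hno
    push Not at hno
    obtain ⟨K, hK, hKi, htK⟩ := Involution.thompson_transfer T (zpowers b) hle hrel
      (by rw [← pow_two, ← ha, pow_orderOf_eq_one]) hno
    rcases IsSimpleGroup.eq_bot_or_eq_top_of_normal K hK with rfl | rfl
    · rw [index_bot] at hKi
      have := isCyclic_of_prime_card (p := 2) hKi
      exact hG IsCyclic.isMulCommutative
    · exact htK (mem_top a)
  refine isConj_iff.mpr ⟨g, ?_⟩
  obtain ⟨i, hi⟩ := mem_zpowers_iff.mp hg
  rcases Int.even_or_odd i with ⟨j, hj⟩ | ⟨j, hj⟩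
  · exfalso
    rw [hj, ← two_mul, zpow_mul, zpow_ofNat, ← hb, pow_orderOf_eq_one, one_zpow] at hi
    have : orderOf (g * a * g⁻¹) = 2 := by
      rw [← MulAut.conj_apply]; exact (MulEquiv.orderOf_eq _ a).trans ha
    rw [← hi, orderOf_one] at this
    omega
  · rw [hj, zpow_add, zpow_mul, zpow_ofNat, ← hb, pow_orderOf_eq_one, one_zpow, one_mul, zpow_one] at hi
    exact hi.symm

end Cfsg.Agent.SO89
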